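import Cfsg.Agent.Lib.Cores.Nilpotent
import Cfsg.Agent.Lib.Coprime.Basic
import Mathlib.GroupTheory.PGroup
import Mathlib.GroupTheory.Sylow

/-!
Chief steps in finite `p`-groups, self-centralizing maximal abelian normal subgroups, and the
bound `|G : C(A)| ≤ p^(a(a-1)/2)`.
-/

set_option autoImplicit false

namespace Cfsg.Agent.PGroups.AbelianNormal

open Subgroup

variable {G : Type*} [Group G] [Finite G] {p : ℕ} [hp : Fact p.Prime]

theorem exists_step (hG : IsPGroup p G) {B N : Subgroup G} [B.Normal] [N.Normal] (hlt : B < N) :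
    ∃ x ∈ N, x ∉ B ∧ x ^ p ∈ B ∧ ∀ g : G, g * x * g⁻¹ * x⁻¹ ∈ B := by
  set f := QuotientGroup.mk' B
  haveI := (hG.to_quotient B).isNilpotent
  haveI : (N.map f).Normal := Normal.map inferInstance f (QuotientGroup.mk'_surjective B)
  have hne : N.map f ≠ ⊥ := fun h => hlt.not_ge (by
    rwa [Subgroup.map_eq_bot_iff, QuotientGroup.ker_mk'] at h)
  set Z := N.map f ⊓ center (G ⧸ B) with hZ
  have hZ1 : Z ≠ ⊥ := Cfsg.Agent.Cores.inf_center_ne_bot hne
  obtain ⟨k, hk⟩ := ((hG.to_quotient B).to_subgroup Z).exists_card_eq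
  have hk0 : k ≠ 0 := fun h => hZ1 (Z.eq_bot_of_card_eq (by rw [hk, h, pow_zero]))
  obtain ⟨z, hz⟩ := exists_prime_orderOf_dvd_card' (G := Z) p (hk ▸ dvd_pow_self p hk0)
  obtain ⟨hzN, hzC⟩ := mem_inf.mp z.2
  obtain ⟨x, hx, hxz⟩ := hzN
  have hord : orderOf (f x) = p := by rw [hxz, Subgroup.orderOf_coe, hz]
  refine ⟨x, hx, fun hxB => ?_, ?_, fun g => ?_⟩
  · rw [show f x = 1 from (QuotientGroup.eq_one_iff x).mpr hxB, orderOf_one] at hord
    exact hp.out.ne_one hord.symm
  · rw [← QuotientGroup.eq_one_iff]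
    change f (x ^ p) = 1
    rw [map_pow, ← hord, pow_orderOf_eq_one]
  · rw [← QuotientGroup.eq_one_iff]
    change f (g * x * g⁻¹ * x⁻¹) = 1
    rw [map_mul, map_mul, map_mul, hxz, map_inv, map_inv, hxz, mem_center_iff.mp hzC (f g),
      mul_inv_cancel_right, mul_inv_cancel]

theorem normal_sup_zpowers {B : Subgroup G} [B.Normal] {x : G}
    (hx : ∀ g : G, g * x * g⁻¹ * x⁻¹ ∈ B) : (B ⊔ zpowers x).Normal := by
  have hg : ∀ g : G, g * x * g⁻¹ ∈ B ⊔ zpowers x := fun g => by
    have h := mul_mem (mem_sup_left (T := zpowers x) (hx g)) (mem_sup_right (S := B) (mem_zpowers x))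
    rwa [inv_mul_cancel_right] at h
  refine ⟨fun y hy g => ?_⟩
  obtain ⟨b, hb, z, hz, rfl⟩ := mem_sup_of_normal_left.mp hy
  obtain ⟨i, rfl⟩ := mem_zpowers_iff.mp hz
  have h2 : g * (b * x ^ i) * g⁻¹ = (g * b * g⁻¹) * (g * x * g⁻¹) ^ i := by
    rw [conj_zpow]; group
  rw [h2]
  exact mul_mem (mem_sup_left (Normal.conj_mem inferInstance b hb g)) (zpow_mem (hg g) i)

omit [Finite G] in
theorem le_centralizer_sup_zpowers {B : Subgroup G} [IsMulCommutative B] {x : G}
    (hx : x ∈ centralizer (B : Set G)) :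
    B ⊔ zpowers x ≤ centralizer ((B ⊔ zpowers x : Subgroup G) : Set G) := by
  refine sup_le (le_centralizer_iff.mpr ?_) (le_centralizer_iff.mpr ?_)
  · exact sup_le (le_centralizer B) (zpowers_le.mpr hx)
  · exact sup_le (le_centralizer_iff.mp (zpowers_le.mpr hx)) (le_centralizer (zpowers x))

/-- A maximal abelian normal subgroup of a finite `p`-group is self-centralizing. -/
theorem centralizer_eq_self (hG : IsPGroup p G) (A : Subgroup G) [A.Normal] [IsMulCommutative A]
    (hmax : ∀ B : Subgroup G, B.Normal → IsMulCommutative B → A ≤ B → B = A) :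
    centralizer (A : Set G) = A := by
  refine le_antisymm ?_ (le_centralizer A)
  by_contra hne
  obtain ⟨x, hxC, hxA, -, hxg⟩ :=
    exists_step hG (lt_of_le_not_ge (le_centralizer A) hne)
  refine hxA ?_
  have h := hmax _ (normal_sup_zpowers hxg)
    (le_centralizer_iff_isMulCommutative.mp (le_centralizer_sup_zpowers hxC)) le_sup_left
  rw [← h]
  exact mem_sup_right (mem_zpowers x)

/-- For a normal subgroup `A` of order `p^a` of a finite `p`-group, `|G : C(A)| ≤ p^(a(a-1)/2)`. -/
theorem index_centralizer_le (hG : IsPGroup p G) (A : Subgroup G) [A.Normal] {a : ℕ}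
    (ha : Nat.card A = p ^ a) :
    (centralizer (A : Set G)).index ≤ p ^ (a.choose 2) := by
  suffices h : ∀ i ≤ a, ∃ B : Subgroup G, B.Normal ∧ B ≤ A ∧ Nat.card B = p ^ i ∧
      (centralizer (B : Set G)).index ≤ p ^ (i.choose 2) by
    obtain ⟨B, -, hBA, hB, hle⟩ := h a le_rfl
    rwa [eq_of_le_of_card_ge hBA (le_of_eq (ha.trans hB.symm))] at hle
  intro i
  induction i with
  | zero =>
    refine fun _ => ⟨⊥, inferInstance, bot_le, by rw [card_bot, pow_zero], ?_⟩
    rw [show centralizer ((⊥ : Subgroup G) : Set G) = ⊤ from eq_top_iff.mpr fun g _ y hy => by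
      rw [mem_bot.mp hy, one_mul, mul_one], index_top]
    exact Nat.one_le_pow _ _ hp.out.pos
  | succ i ih =>
    intro hi
    obtain ⟨B, hBn, hBA, hB, hle⟩ := ih (by omega)
    haveI := hBn
    have hlt : B < A := lt_of_le_of_ne hBA fun h => by
      rw [h, ha] at hB
      exact absurd (Nat.pow_right_injective hp.out.two_le hB) (by omega)
    obtain ⟨x, hxA, hxB, hxp, hxg⟩ := exists_step hG hlt
    refine ⟨B ⊔ zpowers x, normal_sup_zpowers hxg, sup_le hBA (zpowers_le.mpr hxA), ?_, ?_⟩
    · set B' := B ⊔ zpowers x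
      have hdvd : B.relIndex B' ∣ p := by
        have h := relIndex_ker (QuotientGroup.mk' B) (K := B')
        rw [QuotientGroup.ker_mk'] at h
        rw [h, Subgroup.map_sup, QuotientGroup.map_mk'_self, bot_sup_eq, MonoidHom.map_zpowers,
          Nat.card_zpowers, orderOf_dvd_iff_pow_eq_one, QuotientGroup.mk'_apply,
          ← QuotientGroup.mk_pow, QuotientGroup.eq_one_iff]
        exact hxp
      have h1 : B.relIndex B' ≠ 1 := fun h =>
        hxB (relIndex_eq_one.mp h (mem_sup_right (mem_zpowers x)))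
      have hle' : B ≤ B' := le_sup_left
      rw [← card_mul_index (B.subgroupOf B'), Nat.card_congr (subgroupOfEquivOfLe hle').toEquiv,
        hB, ← Subgroup.relIndex, ((Nat.dvd_prime hp.out).mp hdvd).resolve_left h1, pow_succ]
    · set C := centralizer (B : Set G)
      set C' := centralizer ((B ⊔ zpowers x : Subgroup G) : Set G)
      have hC : C' ≤ C := centralizer_le (le_sup_left : B ≤ B ⊔ zpowers x)
      have hinj : C'.relIndex C ≤ p ^ i := by
        rw [← hB, Subgroup.relIndex, index_eq_card]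
        refine Nat.card_le_card_of_injective (Quotient.lift
          (fun k : C => (⟨(k : G) * x * (k : G)⁻¹ * x⁻¹, hxg k⟩ : B)) ?_) ?_
        · intro k l hkl
          replace hkl : k⁻¹ * l ∈ C'.subgroupOf C := QuotientGroup.leftRel_apply.mp hkl
          have hc : x * ((k : G)⁻¹ * l) = ((k : G)⁻¹ * l) * x :=
            hkl x (mem_sup_right (mem_zpowers x))
          refine Subtype.ext ?_
          change (k : G) * x * (k : G)⁻¹ * x⁻¹ = (l : G) * x * (l : G)⁻¹ * x⁻¹
          calc (k : G) * x * (k : G)⁻¹ * x⁻¹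
              = (k : G) * (x * ((k : G)⁻¹ * l)) * (l : G)⁻¹ * x⁻¹ := by group
            _ = (k : G) * (((k : G)⁻¹ * l) * x) * (l : G)⁻¹ * x⁻¹ := by rw [hc]
            _ = (l : G) * x * (l : G)⁻¹ * x⁻¹ := by group
        · intro q r
          induction q using Quotient.inductionOn with
          | _ k =>
          induction r using Quotient.inductionOn with
          | _ l =>
          intro hkl
          refine Quotient.sound (QuotientGroup.leftRel_apply.mpr ?_)
          have h : (k : G) * x * (k : G)⁻¹ = (l : G) * x * (l : G)⁻¹ :=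
            mul_right_cancel (congrArg Subtype.val hkl)
          rw [mem_subgroupOf]
          have hxc : x * ((k : G)⁻¹ * l) = ((k : G)⁻¹ * l) * x := by
            calc x * ((k : G)⁻¹ * l) = (k : G)⁻¹ * ((k : G) * x * (k : G)⁻¹) * l := by group
              _ = (k : G)⁻¹ * ((l : G) * x * (l : G)⁻¹) * l := by rw [h]
              _ = ((k : G)⁻¹ * l) * x := by group
          have hmem : B ⊔ zpowers x ≤ centralizer {((k : G)⁻¹ * l)} := by
            refine sup_le (fun b hb => ?_) (zpowers_le.mpr ?_)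
            · rw [mem_centralizer_singleton_iff]
              exact (C.mul_mem (C.inv_mem k.2) l.2) b hb
            · rw [mem_centralizer_singleton_iff]
              exact hxc
          intro y hy
          exact mem_centralizer_singleton_iff.mp (hmem hy)
      rw [← relIndex_mul_index hC, Nat.choose_succ_succ' i 1, Nat.choose_one_right, pow_add]
      exact Nat.mul_le_mul hinj hle

end Cfsg.Agent.PGroups.AbelianNormal
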