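import Mathlib

/-!
Elementary lemmas on finite p-groups: small generating sets, counting homomorphisms,
commutators with the lower central series.
-/

set_option autoImplicit false

namespace Cfsg.Agent.PGroups.Basic

/-- A finite `p`-group of order at most `p ^ d` is generated by at most `d` elements. -/
theorem exists_generators {G : Type*} [Group G] [Finite G] {p : ℕ} [hp : Fact p.Prime]
    (hG : IsPGroup p G) (d : ℕ) (h : Nat.card G ≤ p ^ d) :
    ∃ S : Finset G, S.card ≤ d ∧ Subgroup.closure (S : Set G) = ⊤ := by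
  classical
  have key : ∀ j : ℕ, ∃ S : Finset G, S.card ≤ j ∧
      (Subgroup.closure (S : Set G) = ⊤ ∨ p ^ j ≤ Nat.card (Subgroup.closure (S : Set G))) := by
    intro j
    induction j with
    | zero => exact ⟨∅, by simp, Or.inr (by simpa using Nat.one_le_iff_ne_zero.mpr Nat.card_pos.ne')⟩
    | succ j ih =>
      obtain ⟨S, hS, hS'⟩ := ih
      by_cases htop : Subgroup.closure (S : Set G) = ⊤
      · exact ⟨S, by omega, Or.inl htop⟩
      have hS'' := hS'.resolve_left htop
      obtain ⟨x, hx⟩ : ∃ x, x ∉ Subgroup.closure (S : Set G) := by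
        by_contra hc
        exact htop (eq_top_iff.mpr fun x _ => not_not.mp fun hx => hc ⟨x, hx⟩)
      refine ⟨insert x S, (Finset.card_insert_le _ _).trans (by omega), Or.inr ?_⟩
      set H := Subgroup.closure (S : Set G)
      set K := Subgroup.closure ((insert x S : Finset G) : Set G)
      have hle : H ≤ K := Subgroup.closure_mono (by simp)
      have hxK : x ∈ K := Subgroup.subset_closure (by simp)
      have hlt : H < K := lt_of_le_of_ne hle (fun e => hx (e ▸ hxK))
      obtain ⟨a, ha⟩ := IsPGroup.iff_card.mp (hG.to_subgroup H)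
      obtain ⟨b, hb⟩ := IsPGroup.iff_card.mp (hG.to_subgroup K)
      have hab : a < b := by
        have hcard : Nat.card H < Nat.card K := by
          refine lt_of_le_of_ne (Subgroup.card_le_of_le hle) fun e => hlt.ne ?_
          exact Subgroup.eq_of_le_of_card_ge hle e.ge
        rw [ha, hb] at hcard
        exact (Nat.pow_lt_pow_iff_right hp.out.one_lt).mp hcard
      rw [ha] at hS''
      rw [hb]
      have : j ≤ a := (Nat.pow_le_pow_iff_right hp.out.one_lt).mp hS''
      exact Nat.pow_le_pow_right hp.out.pos (by omega)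
  obtain ⟨S, hS, hS'⟩ := key d
  refine ⟨S, hS, hS'.elim id fun hle => ?_⟩
  exact Subgroup.eq_top_of_le_card _ (h.trans hle)

/-- There are at most `|Q|` homomorphisms from a finite `p`-group `Q` into a group of order at most `p`. -/
theorem card_hom_le {Q Z : Type*} [Group Q] [Finite Q] [Group Z] [Finite Z] {p : ℕ}
    [hp : Fact p.Prime] (hQ : IsPGroup p Q) (hZ : Nat.card Z ≤ p) :
    Nat.card (Q →* Z) ≤ Nat.card Q := by
  classical
  obtain ⟨d, hd⟩ := IsPGroup.iff_card.mp hQ
  obtain ⟨S, hS, htop⟩ := exists_generators hQ d hd.le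
  have hinj : Function.Injective (fun f : Q →* Z => fun s : S => f (s : Q)) := by
    intro f g hfg
    exact MonoidHom.eq_of_eqOn_dense htop (fun x hx => congrFun hfg ⟨x, hx⟩)
  calc Nat.card (Q →* Z) ≤ Nat.card (S → Z) := Nat.card_le_card_of_injective _ hinj
    _ = Nat.card Z ^ S.card := by rw [Nat.card_fun]; simp
    _ ≤ p ^ d := (Nat.pow_le_pow_left hZ _).trans (Nat.pow_le_pow_right hp.out.pos hS)
    _ = Nat.card Q := hd.symm

/-- In a nilpotent group a normal subgroup `X` with `X ≤ ⁅X, G⁆ B` lies in `B`. -/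
theorem le_of_le_commutator_sup {G : Type*} [Group G] [Group.IsNilpotent G] (X B : Subgroup G)
    [B.Normal] (h : X ≤ ⁅X, (⊤ : Subgroup G)⁆ ⊔ B) : X ≤ B := by
  set f := QuotientGroup.mk' B
  have hf : (⊤ : Subgroup G).map f = ⊤ :=
    Subgroup.map_top_of_surjective f (QuotientGroup.mk'_surjective B)
  have hB : B.map f = ⊥ := (Subgroup.map_eq_bot_iff _).mpr (by simp [f])
  have h1 : X.map f ≤ ⁅X.map f, (⊤ : Subgroup (G ⧸ B))⁆ := by
    refine (Subgroup.map_mono h).trans ?_
    rw [Subgroup.map_sup, Subgroup.map_commutator, hf, hB, sup_bot_eq]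
  have hn : ∀ n, X.map f ≤ (⊤ : Subgroup (G ⧸ B)).lowerCentralSeries n := by
    intro n
    induction n with
    | zero => exact le_top
    | succ n ih =>
      exact h1.trans (by rw [Subgroup.lowerCentralSeries_succ]; exact Subgroup.commutator_mono ih le_rfl)
  obtain ⟨n, hn'⟩ := (Subgroup.nilpotent_iff_lowerCentralSeries (G := G ⧸ B)).mp inferInstance
  have := hn n
  rw [hn', le_bot_iff, Subgroup.map_eq_bot_iff] at this
  simpa [f] using this

/-- The iterated commutator `[X, G, …, G]`. -/
def iterTop {G : Type*} [Group G] (X : Subgroup G) : ℕ → Subgroup G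
  | 0 => X
  | k + 1 => ⁅iterTop X k, (⊤ : Subgroup G)⁆

theorem iterTop_normal {G : Type*} [Group G] (X : Subgroup G) [X.Normal] :
    ∀ k, (iterTop X k).Normal
  | 0 => (inferInstance : X.Normal)
  | k + 1 => by
    have := iterTop_normal X k
    exact inferInstanceAs (⁅iterTop X k, (⊤ : Subgroup G)⁆).Normal

theorem iterTop_comm_top {G : Type*} [Group G] (X : Subgroup G) :
    ∀ k, iterTop ⁅X, (⊤ : Subgroup G)⁆ k = iterTop X (k + 1)
  | 0 => rfl
  | k + 1 => by rw [iterTop, iterTop_comm_top X k]; rfl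

theorem iterTop_succ_le {G : Type*} [Group G] (X : Subgroup G) [X.Normal] (k : ℕ) :
    iterTop X (k + 1) ≤ iterTop X k := by
  have := iterTop_normal X k
  exact Subgroup.commutator_le_left _ _

theorem iterTop_antitone {G : Type*} [Group G] (X : Subgroup G) [X.Normal] :
    Antitone (iterTop X) := antitone_nat_of_succ_le (iterTop_succ_le X)

theorem iterTop_mono {G : Type*} [Group G] {X Y : Subgroup G} (h : X ≤ Y) :
    ∀ k, iterTop X k ≤ iterTop Y k
  | 0 => h
  | k + 1 => Subgroup.commutator_mono (iterTop_mono h k) le_rfl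

/-- The three subgroups lemma modulo a normal subgroup. -/
theorem three_subgroups_le {G : Type*} [Group G] {H₁ H₂ H₃ W : Subgroup G} [W.Normal]
    (h1 : ⁅⁅H₂, H₃⁆, H₁⁆ ≤ W) (h2 : ⁅⁅H₃, H₁⁆, H₂⁆ ≤ W) : ⁅⁅H₁, H₂⁆, H₃⁆ ≤ W := by
  set f := QuotientGroup.mk' W
  have key : ∀ A : Subgroup G, A ≤ W ↔ A.map f = ⊥ := fun A => by
    rw [Subgroup.map_eq_bot_iff]; simp [f]
  rw [key, Subgroup.map_commutator, Subgroup.map_commutator] at h1 h2 ⊢
  exact Subgroup.commutator_commutator_eq_bot_of_rotate h1 h2

/-- `[M, γ_j] ≤ [M, G, …, G]` (with `j + 1` copies of `G`). -/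
theorem commutator_lowerCentral_le {G : Type*} [Group G] :
    ∀ (j : ℕ) (M : Subgroup G) [M.Normal],
      ⁅M, (⊤ : Subgroup G).lowerCentralSeries j⁆ ≤ iterTop M (j + 1) := by
  intro j
  induction j with
  | zero => intro M _; rfl
  | succ j ih =>
    intro M _
    have := iterTop_normal M (j + 2)
    rw [Subgroup.lowerCentralSeries_succ, Subgroup.commutator_comm]
    refine three_subgroups_le ?_ ?_
    · have h := ih ⁅(⊤ : Subgroup G), M⁆
      rw [Subgroup.commutator_comm (⊤ : Subgroup G) M, iterTop_comm_top] at h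
      rw [Subgroup.commutator_comm (⊤ : Subgroup G) M]
      exact h
    · exact Subgroup.commutator_mono (ih M) le_rfl

end Cfsg.Agent.PGroups.Basic
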