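import Cfsg.Agent.Solvable.Basics
import Cfsg.Agent.Lib.Coprime.Generation
import Mathlib.GroupTheory.SpecificGroups.Quaternion
import Mathlib.FieldTheory.Finite.Basic

/-!
A `p`-group with a unique subgroup of order `p` is cyclic or generalized quaternion.
-/

set_option autoImplicit false

namespace Cfsg.Agent.PGroups.UniqueSubgroup

open scoped IsMulCommutative

variable {G : Type*} [Group G] {p : ℕ}

/-- An abelian `p`-group with at most one subgroup of order `p` is cyclic. -/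
theorem isCyclic_of_abelian [Finite G] [hp : Fact p.Prime] (hG : IsPGroup p G) [IsMulCommutative G]
    (hu : ∀ x y : G, x ^ p = 1 → y ^ p = 1 → x ≠ 1 → y ∈ Subgroup.zpowers x) : IsCyclic G := by
  by_contra h
  obtain ⟨q, hq, x, y, hx1, hx, hy, hyx⟩ :=
    Cfsg.Agent.Coprime.exists_two_independent_of_not_isCyclic G h
  have := Fact.mk hq
  obtain ⟨k, hk⟩ := IsPGroup.iff_orderOf.mp hG x
  rw [orderOf_eq_prime hx hx1] at hk
  have hqp : q = p := (Nat.prime_dvd_prime_iff_eq hq hp.out).mp (hq.dvd_of_dvd_pow hk.dvd)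
  subst hqp
  exact hyx (hu x y hx hy hx1)

theorem conj_pow_eq {a x : G} {r : ℕ} (h : x * a * x⁻¹ = a ^ r) (j : ℕ) :
    x * a ^ j * x⁻¹ = a ^ (j * r) := by
  rw [← conj_pow, h, ← pow_mul, mul_comm]

theorem pow_conj_eq {a x : G} {r : ℕ} (h : x * a * x⁻¹ = a ^ r) (m : ℕ) :
    x ^ m * a * (x ^ m)⁻¹ = a ^ (r ^ m) := by
  induction m with
  | zero => simp
  | succ m ih =>
    rw [pow_succ' x, mul_inv_rev, pow_succ r]
    calc x * x ^ m * a * ((x ^ m)⁻¹ * x⁻¹) = x * (x ^ m * a * (x ^ m)⁻¹) * x⁻¹ := by group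
      _ = x * a ^ (r ^ m) * x⁻¹ := by rw [ih]
      _ = a ^ (r ^ m * r) := conj_pow_eq h _

theorem mul_pow_eq {a x : G} {r : ℕ} (h : x * a * x⁻¹ = a ^ r) (j m : ℕ) :
    (a ^ j * x) ^ m = a ^ (j * ∑ i ∈ Finset.range m, r ^ i) * x ^ m := by
  induction m with
  | zero => simp
  | succ m ih =>
    rw [pow_succ' (a ^ j * x), ih, pow_succ' x m]
    have h2 := conj_pow_eq h (j * ∑ i ∈ Finset.range m, r ^ i)
    rw [mul_inv_eq_iff_eq_mul] at h2
    calc a ^ j * x * (a ^ (j * ∑ i ∈ Finset.range m, r ^ i) * x ^ m)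
        = a ^ j * (x * a ^ (j * ∑ i ∈ Finset.range m, r ^ i)) * x ^ m := by group
      _ = a ^ j * (a ^ (j * (∑ i ∈ Finset.range m, r ^ i) * r) * x) * x ^ m := by rw [h2]
      _ = a ^ (j + j * (∑ i ∈ Finset.range m, r ^ i) * r) * (x * x ^ m) := by rw [pow_add]; group
      _ = _ := by
        rw [Finset.sum_range_succ', Nat.mul_add, pow_zero, mul_one, add_comm j,
          mul_assoc j, Finset.sum_mul]
        simp only [← pow_succ]

theorem geom_sum_of_mod {p r : ℕ} (hp : p.Prime) (h1 : r % p = 1)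
    (h2 : p = 2 → r % 4 = 1) : ∃ u, ∑ i ∈ Finset.range p, r ^ i = p * u ∧ ¬ p ∣ u := by
  rcases hp.eq_two_or_odd with rfl | hodd
  · refine ⟨1 + 2 * (r / 4), ?_, by omega⟩
    have := h2 rfl
    rw [Finset.sum_range_succ, Finset.sum_range_succ, Finset.sum_range_zero, pow_zero, pow_one]
    omega
  · obtain ⟨k, hk⟩ : ∃ k, r = 1 + p * k := ⟨r / p, by
      have := Nat.mod_add_div r p; omega⟩
    have hpow : ∀ i, ∃ M, r ^ i = 1 + p * (i * k) + p * p * M := by
      intro i
      induction i with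
      | zero => exact ⟨0, by simp⟩
      | succ i ih =>
        obtain ⟨M, hM⟩ := ih
        exact ⟨i * k * k + M + p * M * k, by rw [pow_succ, hM, hk]; ring⟩
    choose M hM using hpow
    obtain ⟨c, hc⟩ : ∃ c, ∑ i ∈ Finset.range p, i = p * c := by
      obtain ⟨d, hd⟩ : ∃ d, p - 1 = 2 * d := ⟨(p - 1) / 2, by omega⟩
      refine ⟨d, ?_⟩
      rw [Finset.sum_range_id, hd, ← mul_assoc, mul_comm p 2, mul_assoc,
        Nat.mul_div_cancel_left _ (by norm_num)]
    refine ⟨1 + p * (k * c + ∑ i ∈ Finset.range p, M i), ?_, ?_⟩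
    · rw [Finset.sum_congr rfl fun i _ => hM i, Finset.sum_add_distrib, Finset.sum_add_distrib,
        ← Finset.mul_sum, ← Finset.mul_sum, ← Finset.sum_mul, hc, Finset.sum_const,
        Finset.card_range, smul_eq_mul]
      ring
    · intro hd
      exact hp.ne_one (Nat.dvd_one.mp ((Nat.dvd_add_left (dvd_mul_right p _)).mp hd))

/-- A `p`-group with a unique subgroup of order `p` is cyclic or generalized quaternion. -/
theorem isCyclic_or_quaternion [Finite G] [hp : Fact p.Prime] (hG : IsPGroup p G)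
    (huniq : ∀ H K : Subgroup G, Nat.card H = p → Nat.card K = p → H = K) :
    IsCyclic G ∨ (p = 2 ∧ ∃ n : ℕ, Nonempty (G ≃* QuaternionGroup (2 ^ n))) := by
  have := hG.isNilpotent
  have hu : ∀ x y : G, x ^ p = 1 → y ^ p = 1 → x ≠ 1 → y ∈ Subgroup.zpowers x := by
    intro x y hx hy hx1
    by_cases hy1 : y = 1
    · exact hy1 ▸ one_mem _
    · rw [huniq (Subgroup.zpowers x) (Subgroup.zpowers y)
        (by rw [Nat.card_zpowers, orderOf_eq_prime hx hx1])
        (by rw [Nat.card_zpowers, orderOf_eq_prime hy hy1])]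
      exact Subgroup.mem_zpowers y
  -- a maximal abelian normal subgroup
  obtain ⟨A, -, ⟨hAn, hAab⟩, hAmax⟩ := Set.Finite.exists_le_maximal
    (Set.toFinite {A : Subgroup G | A.Normal ∧ IsMulCommutative A}) (a := ⊥)
    ⟨inferInstance, inferInstance⟩
  have hCA : Subgroup.centralizer (A : Set G) = A := by
    refine le_antisymm ?_ (Subgroup.le_centralizer_iff_isMulCommutative.mpr hAab)
    by_contra hnle
    let π := QuotientGroup.mk' A
    have hbot : (Subgroup.centralizer (A : Set G)).map π ≠ ⊥ := by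
      rw [Ne, Subgroup.map_eq_bot_iff, QuotientGroup.ker_mk']; exact hnle
    have : ((Subgroup.centralizer (A : Set G)).map π).Normal :=
      Subgroup.Normal.map inferInstance π (QuotientGroup.mk'_surjective A)
    obtain ⟨q, hq, hq1⟩ := (Subgroup.bot_or_exists_ne_one _).resolve_left
      (Cfsg.Agent.Solvable.Basics.inf_center_ne_bot hbot)
    obtain ⟨⟨x, hx, rfl⟩, hqc⟩ := Subgroup.mem_inf.mp hq
    have hxN : x ∉ A := fun h => hq1 ((QuotientGroup.eq_one_iff x).mpr h)
    have hMn : (A ⊔ Subgroup.zpowers x).Normal := by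
      have h : A ⊔ Subgroup.zpowers x = (Subgroup.zpowers (π x)).comap π := by
        rw [← MonoidHom.map_zpowers, Subgroup.comap_map_eq, QuotientGroup.ker_mk', sup_comm]
      rw [h]
      have : (Subgroup.zpowers (π x)).Normal := ⟨fun y hy g => by
        have hy' := (Subgroup.zpowers_le.mpr hqc) hy
        rwa [Subgroup.mem_center_iff.mp hy' g, mul_inv_cancel_right]⟩
      exact this.comap π
    have hMab : IsMulCommutative (A ⊔ Subgroup.zpowers x : Subgroup G) := by
      rw [← Subgroup.le_centralizer_iff_isMulCommutative]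
      have h1 : A ≤ Subgroup.centralizer (A : Set G) :=
        Subgroup.le_centralizer_iff_isMulCommutative.mpr hAab
      have h2 : Subgroup.zpowers x ≤ Subgroup.centralizer (A : Set G) := Subgroup.zpowers_le.mpr hx
      exact sup_le (Subgroup.le_centralizer_iff.mp (sup_le h1 h2)) (Subgroup.le_centralizer_iff.mp
        (sup_le (Subgroup.le_centralizer_iff.mp h2)
          (Subgroup.le_centralizer_iff_isMulCommutative.mpr inferInstance)))
    exact hxN (hAmax ⟨hMn, hMab⟩ le_sup_left (Subgroup.mem_sup_right (Subgroup.mem_zpowers x)))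
  have hAcyc : IsCyclic A := isCyclic_of_abelian (hG.to_subgroup A) fun x y hx hy hx1 => by
    have h := hu x y (by simpa using congrArg Subtype.val hx)
      (by simpa using congrArg Subtype.val hy) (fun h => hx1 (Subtype.ext h))
    obtain ⟨k, hk⟩ := h
    exact ⟨k, Subtype.ext (by simpa using hk)⟩
  obtain ⟨a, rfl⟩ : ∃ a : G, A = Subgroup.zpowers a := by
    obtain ⟨g, hg⟩ := IsCyclic.exists_generator (α := A)
    refine ⟨g, le_antisymm (fun y hy => ?_) (Subgroup.zpowers_le.mpr g.2)⟩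
    obtain ⟨k, hk⟩ := hg ⟨y, hy⟩
    exact ⟨k, congrArg Subtype.val hk⟩
  by_cases htop : Subgroup.zpowers a = ⊤
  · exact Or.inl (isCyclic_iff_exists_zpowers_eq_top.mpr ⟨a, htop⟩)
  right
  obtain ⟨n, hn⟩ := IsPGroup.iff_orderOf.mp hG a
  have hcomm : ∀ x : G, x * a = a * x → x ∈ Subgroup.zpowers a := by
    intro x hx
    rw [← hCA, Subgroup.zpowers_eq_closure, Subgroup.centralizer_closure,
      Subgroup.mem_centralizer_singleton_iff]
    exact hx
  have ha1 : a ≠ 1 := by
    intro h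
    refine htop (eq_top_iff.mpr fun x _ => hcomm x ?_)
    rw [h, mul_one, one_mul]
  have hn0 : n ≠ 0 := fun h => ha1 (orderOf_eq_one_iff.mp (by rw [hn, h, pow_zero]))
  have hconj : ∀ x : G, ∃ r, x * a * x⁻¹ = a ^ r := fun x => by
    obtain ⟨r, hr⟩ := Submonoid.mem_powers_iff _ _ |>.mp
      (mem_powers_iff_mem_zpowers.mpr (hAn.conj_mem a (Subgroup.mem_zpowers a) x))
    exact ⟨r, hr.symm⟩
  obtain ⟨z, hzA, hz1, hzp⟩ : ∃ z ∈ Subgroup.zpowers a, z ≠ 1 ∧ z ^ p = 1 := by
    obtain ⟨m, rfl⟩ := Nat.exists_eq_succ_of_ne_zero hn0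
    refine ⟨a ^ p ^ m, pow_mem (Subgroup.mem_zpowers a) _, fun h => ?_, ?_⟩
    · have h2 := orderOf_dvd_of_pow_eq_one h
      rw [hn, Nat.pow_dvd_pow_iff_le_right hp.out.one_lt] at h2
      omega
    · rw [← pow_mul, ← pow_succ, ← hn, pow_orderOf_eq_one]
  have hout : ∀ y : G, y ∉ Subgroup.zpowers a → y ^ p ≠ 1 := fun y hy h =>
    hy (Subgroup.zpowers_le.mpr hzA (hu z y hzp h hz1))
  have hrmod : ∀ (x : G) (r : ℕ), x ∉ Subgroup.zpowers a → x ^ p ∈ Subgroup.zpowers a →
      x * a * x⁻¹ = a ^ r → r % p = 1 := by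
    intro x r _ hxp hr
    have h := pow_conj_eq hr p
    obtain ⟨k, hk⟩ := hxp
    have h' : a ^ (r ^ p) = a ^ 1 := by
      rw [← h, ← hk, pow_one]
      group
    rw [pow_eq_pow_iff_modEq, hn] at h'
    have h2 : r ^ p ≡ 1 [MOD p] := h'.of_dvd (dvd_pow_self p hn0)
    have h3 : r ^ p ≡ r [MOD p] := by
      rw [← ZMod.natCast_eq_natCast_iff]
      push_cast
      exact ZMod.pow_card _
    have h4 : r % p = 1 % p := h3.symm.trans h2
    rwa [Nat.mod_eq_of_lt hp.out.one_lt] at h4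
  -- the main computation
  have key : ∀ (x : G) (r : ℕ), x ∉ Subgroup.zpowers a → x ^ p ∈ Subgroup.zpowers a →
      x * a * x⁻¹ = a ^ r → (p = 2 → r % 4 = 1) → False := by
    intro x r hx hxp hr h4
    obtain ⟨u, hS, hu'⟩ := geom_sum_of_mod hp.out (hrmod x r hx hxp hr) h4
    obtain ⟨e, he⟩ := Submonoid.mem_powers_iff _ _ |>.mp (mem_powers_iff_mem_zpowers.mpr hxp)
    have hpe : p ∣ e := by
      by_contra hpe
      have hc : e.Coprime (orderOf a) := by
        rw [hn]; exact (hp.out.coprime_iff_not_dvd.mpr hpe).symm.pow_right n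
      obtain ⟨m, hm⟩ := exists_pow_eq_self_of_coprime hc
      refine hx (hcomm x ?_)
      rw [← hm, he]
      exact ((Commute.refl x).pow_right p).pow_right m
    obtain ⟨e', rfl⟩ := hpe
    have hcu : u.Coprime (orderOf a) := by
      rw [hn]; exact (hp.out.coprime_iff_not_dvd.mpr hu').symm.pow_right n
    obtain ⟨m, hm⟩ := exists_pow_eq_self_of_coprime hcu
    obtain ⟨j, hj⟩ := Submonoid.mem_powers_iff _ _ |>.mp (mem_powers_iff_mem_zpowers.mpr
      (show (a ^ e')⁻¹ ∈ Subgroup.zpowers (a ^ u) by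
        have hle : Subgroup.zpowers a ≤ Subgroup.zpowers (a ^ u) := Subgroup.zpowers_le.mpr (by
          have h : (a ^ u) ^ m ∈ Subgroup.zpowers (a ^ u) := pow_mem (Subgroup.mem_zpowers _) m
          rwa [hm] at h)
        exact hle (inv_mem (pow_mem (Subgroup.mem_zpowers a) e'))))
    refine hout (a ^ j * x) (fun h => hx ?_) ?_
    · simpa using mul_mem (inv_mem (pow_mem (Subgroup.mem_zpowers a) j)) h
    · rw [mul_pow_eq hr, hS, ← he, show j * (p * u) = u * j * p by ring, pow_mul, pow_mul, hj,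
        mul_comm p e', pow_mul, inv_pow, inv_mul_cancel]
  have hp2 : p = 2 := by
    by_contra hne
    obtain ⟨y, hy⟩ : ∃ y, y ∉ Subgroup.zpowers a := by
      by_contra h
      push Not at h
      exact htop (eq_top_iff.mpr fun y _ => h y)
    obtain ⟨k, hk⟩ := hG y
    classical
    have hex : ∃ i, y ^ (p ^ i) ∈ Subgroup.zpowers a := ⟨k, by rw [hk]; exact one_mem _⟩
    have hspec := Nat.find_spec hex
    rcases hf : Nat.find hex with _ | i
    · rw [hf] at hspec
      simp only [pow_zero, pow_one] at hspec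
      exact hy hspec
    · rw [hf, pow_succ, pow_mul] at hspec
      obtain ⟨r, hr⟩ := hconj (y ^ p ^ i)
      exact key _ r (Nat.find_min hex (by omega)) hspec hr fun h => absurd h hne
  subst hp2
  refine ⟨rfl, ?_⟩
  have huz : ∀ w : G, w ^ 2 = 1 → w ≠ 1 → w = z := by
    intro w hw hw1
    obtain ⟨k, hk⟩ := hu z w hzp hw hz1
    rcases Int.even_or_odd k with ⟨l, rfl⟩ | ⟨l, rfl⟩
    · refine absurd hk.symm ?_
      simp only [← two_mul, zpow_mul, zpow_ofNat, hzp, one_zpow]
      exact hw1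
    · rw [← hk]
      simp only [zpow_add, zpow_mul, zpow_ofNat, hzp, one_zpow, one_mul, zpow_one, pow_one]
  have hinv : ∀ x : G, x ∉ Subgroup.zpowers a → x ^ 2 ∈ Subgroup.zpowers a →
      x * a * x⁻¹ = a⁻¹ ∧ x ^ 2 = z := by
    intro x hx hx2
    obtain ⟨r, hr⟩ := hconj x
    have h2 := hrmod x r hx hx2 hr
    have h4 : r % 4 = 3 := by
      rcases (show r % 4 = 1 ∨ r % 4 = 3 by omega) with h | h
      · exact (key x r hx hx2 hr fun _ => h).elim
      · exact h
    obtain ⟨w, hw⟩ : ∃ w, r = 1 + 2 * w := ⟨r / 2, by omega⟩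
    have hwodd : ¬ 2 ∣ w := by omega
    have hcop : w.Coprime (orderOf a) := by
      rw [hn]; exact ((Nat.prime_two.coprime_iff_not_dvd.mpr hwodd).symm).pow_right n
    obtain ⟨m, hm⟩ := exists_pow_eq_self_of_coprime hcop
    -- an element of `⟨a⟩` fixed by `x` has square one
    have hfix : ∀ i : ℕ, x * a ^ i * x⁻¹ = a ^ i → (a ^ i) ^ 2 = 1 := by
      intro i hi
      rw [conj_pow_eq hr, hw, mul_add, mul_one, pow_add, mul_eq_left] at hi
      conv_lhs => rw [← hm]
      rw [← pow_mul, ← pow_mul, ← pow_mul, show w * (m * (i * 2)) = i * (2 * w) * m by ring,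
        pow_mul, hi, one_pow]
    obtain ⟨e, he⟩ := Submonoid.mem_powers_iff _ _ |>.mp (mem_powers_iff_mem_zpowers.mpr hx2)
    have hx4 : (x ^ 2) ^ 2 = 1 := by
      rw [← he]; refine hfix e ?_; rw [he]; group
    have hxz : x ^ 2 = z := huz _ hx4 (hout x hx)
    refine ⟨?_, hxz⟩
    rw [hr, eq_inv_iff_mul_eq_one, ← pow_succ]
    by_contra hne
    have hq : (a ^ (r + 1)) ^ 2 = 1 := by
      refine hfix (r + 1) ?_
      rw [conj_pow_eq hr]
      have hxx : a ^ (r ^ 2) = a ^ 1 := by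
        rw [← pow_conj_eq hr 2, ← he, pow_one]
        group
      rw [show (r + 1) * r = r ^ 2 + r by ring, pow_add, hxx, ← pow_add, add_comm 1 r]
    have hy : a * x ∉ Subgroup.zpowers a := fun h =>
      hx (by simpa using mul_mem (inv_mem (Subgroup.mem_zpowers a)) h)
    refine hout (a * x) hy ?_
    have h := mul_pow_eq hr 1 2
    rw [pow_one, one_mul, Finset.sum_range_succ, Finset.sum_range_succ, Finset.sum_range_zero,
      pow_zero, pow_one, zero_add, add_comm 1 r, huz _ hq hne, hxz, ← sq, hzp] at h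
    exact h
  have hsq : ∀ x : G, x ∉ Subgroup.zpowers a → x ^ 2 ∈ Subgroup.zpowers a := by
    intro x hx
    obtain ⟨k, hk⟩ := hG x
    classical
    have hex : ∃ i, x ^ (2 ^ i) ∈ Subgroup.zpowers a := ⟨k, by rw [hk]; exact one_mem _⟩
    have hspec := Nat.find_spec hex
    rcases hf : Nat.find hex with _ | _ | i
    · rw [hf] at hspec
      simp only [pow_zero, pow_one] at hspec
      exact absurd hspec hx
    · rw [hf] at hspec
      simpa using hspec
    · exfalso
      have hw : x ^ 2 ^ (i + 1) ∉ Subgroup.zpowers a := Nat.find_min hex (by omega)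
      rw [hf, pow_succ, pow_mul] at hspec
      have h1 := (hinv _ hw hspec).1
      obtain ⟨r, hr⟩ := hconj (x ^ 2 ^ i)
      rw [pow_succ, pow_mul, pow_conj_eq hr 2, eq_inv_iff_mul_eq_one, ← pow_succ,
        ← orderOf_dvd_iff_pow_eq_one, hn] at h1
      rcases Nat.lt_or_ge n 2 with hn2 | hn2
      · have hn1 : n = 1 := by omega
        apply hw
        apply hcomm
        have ha2 : a⁻¹ = a := inv_eq_of_mul_eq_one_right (by
          rw [← pow_two, ← pow_one 2, ← hn1, ← hn, pow_orderOf_eq_one])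
        have := (hinv _ hw hspec).1
        rw [ha2, mul_inv_eq_iff_eq_mul] at this
        exact this
      · obtain ⟨c, hc⟩ := (Nat.pow_dvd_pow 2 hn2).trans h1
        rcases Nat.even_or_odd r with ⟨l, rfl⟩ | ⟨l, rfl⟩ <;> ring_nf at hc <;> omega
  obtain ⟨x, hx⟩ : ∃ x, x ∉ Subgroup.zpowers a := by
    by_contra h
    push Not at h
    exact htop (eq_top_iff.mpr fun y _ => h y)
  obtain ⟨hxa, hxz⟩ := hinv x hx (hsq x hx)
  have hcover : ∀ y : G, y ∈ Subgroup.zpowers a ∨ x⁻¹ * y ∈ Subgroup.zpowers a := by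
    intro y
    by_cases hy : y ∈ Subgroup.zpowers a
    · exact Or.inl hy
    obtain ⟨hya, -⟩ := hinv y hy (hsq y hy)
    refine Or.inr (hcomm _ ?_)
    have h1 : y * a = a⁻¹ * y := mul_inv_eq_iff_eq_mul.mp hya
    have h2 : x * a = a⁻¹ * x := mul_inv_eq_iff_eq_mul.mp hxa
    calc x⁻¹ * y * a = x⁻¹ * (y * a) := by group
      _ = x⁻¹ * (a⁻¹ * y) := by rw [h1]
      _ = x⁻¹ * (a⁻¹ * x) * (x⁻¹ * y) := by group
      _ = x⁻¹ * (x * a) * (x⁻¹ * y) := by rw [h2]
      _ = a * (x⁻¹ * y) := by group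
  rcases Nat.lt_or_ge n 2 with hn2 | hn2
  · exfalso
    have hn1 : n = 1 := by omega
    refine hx (hcomm x ?_)
    have ha2 : a⁻¹ = a := inv_eq_of_mul_eq_one_right (by
      rw [← pow_two, ← pow_one 2, ← hn1, ← hn, pow_orderOf_eq_one])
    rw [ha2, mul_inv_eq_iff_eq_mul] at hxa
    exact hxa
  obtain ⟨d, rfl⟩ : ∃ d, n = d + 1 := ⟨n - 1, by omega⟩
  refine ⟨d, ⟨?_⟩⟩
  let N := 2 ^ d
  have hord : orderOf a = 2 * N := by rw [hn, pow_succ']
  let φ : ZMod (2 * N) → G := fun i => a ^ i.val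
  have hNpos : 0 < 2 * N := by positivity
  haveI : NeZero (2 * N) := ⟨hNpos.ne'⟩
  have hφ : ∀ i j, φ (i + j) = φ i * φ j := fun i j => by
    simp only [φ]
    have h := pow_mod_orderOf a (i.val + j.val)
    rw [hord] at h
    rw [ZMod.val_add, ← pow_add, h]
  have hφ0 : φ 0 = 1 := by simp [φ]
  have hφsub : ∀ i j, φ (i - j) = φ i * (φ j)⁻¹ := fun i j => by
    rw [eq_mul_inv_iff_mul_eq, ← hφ, sub_add_cancel]
  have hzN : φ (N : ℕ) = z := by
    have hlt : N < 2 * N := by omega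
    refine huz _ ?_ ?_
    · simp only [φ, ZMod.val_natCast, Nat.mod_eq_of_lt hlt]
      rw [← pow_mul, mul_comm, ← hord, pow_orderOf_eq_one]
    · simp only [φ, ZMod.val_natCast, Nat.mod_eq_of_lt hlt]
      intro h
      have := Nat.le_of_dvd (by positivity) (orderOf_dvd_of_pow_eq_one h)
      omega
  have hxφ : ∀ i, φ i * x = x * (φ i)⁻¹ := by
    intro i
    simp only [φ]
    have h : x * (a ^ i.val)⁻¹ * x⁻¹ = a ^ i.val := by
      rw [← inv_pow, ← conj_pow, ← inv_inj, ← inv_pow, ← inv_pow]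
      congr 1
      rw [mul_inv_rev, mul_inv_rev, inv_inv, inv_inv, ← mul_assoc, hxa]
    exact (mul_inv_eq_iff_eq_mul.mp h).symm
  let f : QuaternionGroup N →* G :=
    MonoidHom.mk' (fun q => match q with
      | QuaternionGroup.a i => φ i
      | QuaternionGroup.xa i => x * φ i) (by
      rintro (i | i) (j | j)
      · rw [QuaternionGroup.a_mul_a]; exact hφ i j
      · rw [QuaternionGroup.a_mul_xa]
        change x * φ (j - i) = φ i * (x * φ j)
        rw [← mul_assoc, hxφ, mul_assoc, sub_eq_add_neg, add_comm, hφ, ← zero_sub, hφsub, hφ0,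
          one_mul]
      · rw [QuaternionGroup.xa_mul_a]
        change x * φ (i + j) = x * φ i * φ j
        rw [hφ, mul_assoc]
      · rw [QuaternionGroup.xa_mul_xa]
        change φ ((N : ZMod (2 * N)) + j - i) = x * φ i * (x * φ j)
        rw [← mul_assoc (x * φ i) x, mul_assoc x (φ i) x, hxφ, ← mul_assoc x x, ← sq, hxz,
          ← hzN, add_sub_assoc, hφ, sub_eq_add_neg, add_comm j, hφ, ← zero_sub, hφsub, hφ0,
          one_mul, ← mul_assoc])
  have hmemφ : ∀ y ∈ Subgroup.zpowers a, ∃ i, φ i = y := by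
    intro y hy
    obtain ⟨k, rfl⟩ := Submonoid.mem_powers_iff _ _ |>.mp (mem_powers_iff_mem_zpowers.mpr hy)
    refine ⟨(k : ℕ), ?_⟩
    simp only [φ, ZMod.val_natCast]
    have h := pow_mod_orderOf a k
    rwa [hord] at h
  refine (MulEquiv.ofBijective f ⟨?_, ?_⟩).symm
  · rw [injective_iff_map_eq_one]
    rintro (i | i) hi
    · change a ^ i.val = 1 at hi
      rw [← orderOf_dvd_iff_pow_eq_one, hord] at hi
      have h0 : i.val = 0 := Nat.eq_zero_of_dvd_of_lt hi (ZMod.val_lt i)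
      rw [(ZMod.val_eq_zero i).mp h0]
      rfl
    · change x * a ^ i.val = 1 at hi
      exact absurd (eq_inv_of_mul_eq_one_left hi ▸
        inv_mem (pow_mem (Subgroup.mem_zpowers a) _)) hx
  · intro y
    rcases hcover y with hy | hy
    · obtain ⟨i, hi⟩ := hmemφ y hy
      exact ⟨.a i, hi⟩
    · obtain ⟨i, hi⟩ := hmemφ _ hy
      exact ⟨.xa i, by change x * φ i = y; rw [hi, mul_inv_cancel_left]⟩

end Cfsg.Agent.PGroups.UniqueSubgroup
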