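import Mathlib
import Cfsg.Agent.OddLocal.Puig

/-!
Normal subgroups of finite p-groups of every order, cyclicity criteria.
-/

set_option autoImplicit false

namespace Cfsg.Agent.PGroups.Normal

/-- A normal subgroup of a finite `p`-group contains normal subgroups of every smaller `p`-power order. -/
theorem exists_normal_le_card {G : Type*} [Group G] [Finite G] {p : ℕ} [hp : Fact p.Prime]
    (hG : IsPGroup p G) (N : Subgroup G) [hN : N.Normal] :
    ∀ k : ℕ, p ^ k ≤ Nat.card N → ∃ M : Subgroup G, M.Normal ∧ M ≤ N ∧ Nat.card M = p ^ k := by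
  intro k
  induction k with
  | zero => intro _; exact ⟨⊥, inferInstance, bot_le, by simp⟩
  | succ k ih =>
    intro hk
    obtain ⟨M, hMn, hMN, hMc⟩ := ih ((Nat.pow_le_pow_right hp.out.pos k.le_succ).trans hk)
    haveI := hMn
    set π := QuotientGroup.mk' M
    set N' := N.map π
    haveI : N'.Normal := hN.map π (QuotientGroup.mk'_surjective M)
    have hN' : N' ≠ ⊥ := by
      intro h
      rw [Subgroup.map_eq_bot_iff, QuotientGroup.ker_mk'] at h
      have hle := Subgroup.card_le_of_le h
      rw [hMc] at hle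
      have := Nat.pow_lt_pow_right hp.out.one_lt (Nat.lt_add_one k)
      omega
    -- a central subgroup of order p inside N'
    obtain ⟨z, hzN, hzZ, hz⟩ : ∃ z, z ∈ N' ∧ z ∈ Subgroup.center (G ⧸ M) ∧ orderOf z = p := by
      have hQ := hG.to_quotient M
      let act : MulAction (ConjAct (G ⧸ M)) N' :=
        { smul := fun g x => ⟨ConjAct.ofConjAct g * x * (ConjAct.ofConjAct g)⁻¹,
            ‹N'.Normal›.conj_mem _ x.2 _⟩
          one_smul := fun x => Subtype.ext (by
            show ConjAct.ofConjAct 1 * (x : G ⧸ M) * (ConjAct.ofConjAct 1)⁻¹ = x; simp)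
          mul_smul := fun g h x => Subtype.ext (by
            show ConjAct.ofConjAct (g * h) * (x : G ⧸ M) * (ConjAct.ofConjAct (g * h))⁻¹ =
              ConjAct.ofConjAct g * (ConjAct.ofConjAct h * (x : G ⧸ M) * (ConjAct.ofConjAct h)⁻¹) *
                (ConjAct.ofConjAct g)⁻¹
            simp only [map_mul, mul_inv_rev, mul_assoc]) }
      have h1 : (1 : N') ∈ MulAction.fixedPoints (ConjAct (G ⧸ M)) N' := fun g => Subtype.ext (by
        show ConjAct.ofConjAct g * (1 : G ⧸ M) * (ConjAct.ofConjAct g)⁻¹ = 1; simp)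
      have hd : p ∣ Nat.card N' :=
        ((hQ.to_subgroup N').card_eq_or_dvd).resolve_left (fun h => hN' (Subgroup.eq_bot_of_card_eq _ h))
      obtain ⟨b, hb, hb1⟩ := (hQ.of_equiv ConjAct.toConjAct).exists_fixed_point_of_prime_dvd_card_of_fixed_point N' hd h1
      have hbc : (b : G ⧸ M) ∈ Subgroup.center (G ⧸ M) := Subgroup.mem_center_iff.mpr fun g =>
        mul_inv_eq_iff_eq_mul.mp (congrArg Subtype.val (hb (ConjAct.toConjAct g)))
      have hbne : (b : G ⧸ M) ≠ 1 := fun h => hb1 (Subtype.ext h.symm)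
      obtain ⟨j, hj⟩ := IsPGroup.iff_orderOf.mp hQ (b : G ⧸ M)
      have hj0 : j ≠ 0 := fun h => hbne (orderOf_eq_one_iff.mp (by simpa [h] using hj))
      obtain ⟨j, rfl⟩ := Nat.exists_eq_succ_of_ne_zero hj0
      refine ⟨(b : G ⧸ M) ^ p ^ j, pow_mem b.2 _, pow_mem hbc _, ?_⟩
      rw [orderOf_pow_of_dvd (pow_ne_zero _ hp.out.ne_zero) (hj ▸ pow_dvd_pow p j.le_succ), hj,
        Nat.succ_eq_add_one, pow_succ, Nat.mul_div_cancel_left _ (pow_pos hp.out.pos j)]
    have hzn : (Subgroup.zpowers z).Normal := ⟨fun x hx g => by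
      have hc := Subgroup.zpowers_le.mpr hzZ hx
      rwa [Subgroup.mem_center_iff.mp hc g, mul_inv_cancel_right]⟩
    refine ⟨(Subgroup.zpowers z).comap π, hzn.comap π, ?_, ?_⟩
    · refine (Subgroup.comap_mono (Subgroup.zpowers_le.mpr hzN)).trans ?_
      rw [Subgroup.comap_map_eq, QuotientGroup.ker_mk']
      exact sup_le le_rfl hMN
    · have h1 := (Subgroup.zpowers z).card_mul_index
      have h2 := ((Subgroup.zpowers z).comap π).card_mul_index
      rw [Subgroup.index_comap_of_surjective _ (QuotientGroup.mk'_surjective M),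
        Subgroup.card_eq_card_quotient_mul_card_subgroup M, ← h1, Nat.card_zpowers, hz, hMc] at h2
      apply mul_right_cancel₀ (Subgroup.index_ne_zero_of_finite (H := Subgroup.zpowers z))
      rw [h2]; ring

end Cfsg.Agent.PGroups.Normal
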