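import Mathlib
import Cfsg.Prelude.Def_Transfer
import Cfsg.Agent.Lib.PGroups.Basic
import Cfsg.Agent.Solvable.Basics

/-!
Extraspecial groups: centraliser duality `|X| |C(X)| = p |E|`, the order `p ^ (2n+1)`, abelian subgroups.
-/

set_option autoImplicit false

namespace Cfsg.Agent.PGroups.Extraspecial

open Subgroup
open scoped commutatorElement

variable {E : Type*} [Group E] [Finite E] {p : ℕ}

/-- The commutator pairing between `X` and `Y` into a centre of order at most `p`. -/
theorem relIndex_centralizer_le [Fact p.Prime] (hp : IsPGroup p E) (hc : commutator E ≤ center E)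
    (hZ : Nat.card (center E) ≤ p) (X Y : Subgroup E) :
    (centralizer (Y : Set E)).relIndex X ≤ (centralizer (X : Set E)).relIndex Y := by
  classical
  set Z := center E
  have hZc : ∀ W : Subgroup E, Z ≤ centralizer (W : Set E) := fun W => center_le_centralizer _
  have hn : ∀ W : Subgroup E, (centralizer (W : Set E)).Normal := fun W => ⟨fun u hu g => by
    have h : g * u * g⁻¹ = ⁅g, u⁆ * u := by rw [commutatorElement_def]; group
    rw [h]
    exact mul_mem (hZc W (hc (commutator_mem_commutator (mem_top g) (mem_top u)))) hu⟩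
  have hmem : ∀ g x : E, g * x * g⁻¹ * x⁻¹ ∈ Z := fun g x =>
    hc (commutator_mem_commutator (mem_top g) (mem_top x))
  haveI := hn X
  haveI hnY : ((centralizer (Y : Set E)).subgroupOf X).Normal := (hn Y).subgroupOf X
  let c : E → ↥Y →* ↥Z := fun g =>
    { toFun := fun x => ⟨g * x * g⁻¹ * (x : E)⁻¹, hmem g x⟩
      map_one' := by ext; simp
      map_mul' := fun x y => by
        ext
        show g * ((x : E) * y) * g⁻¹ * ((x : E) * y)⁻¹ = g * x * g⁻¹ * (x : E)⁻¹ * (g * y * g⁻¹ * (y : E)⁻¹)
        calc g * ((x : E) * y) * g⁻¹ * ((x : E) * y)⁻¹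
            = g * x * g⁻¹ * ((g * y * g⁻¹ * (y : E)⁻¹) * (x : E)⁻¹) := by simp [mul_assoc]
          _ = g * x * g⁻¹ * ((x : E)⁻¹ * (g * y * g⁻¹ * (y : E)⁻¹)) := by
              rw [← (mem_center_iff.1 (hmem g y)) ((x : E))⁻¹]
          _ = _ := by simp [mul_assoc] }
  have hker : ∀ g ∈ X, (centralizer (X : Set E)).subgroupOf Y ≤ (c g).ker := by
    intro g hg x hx
    rw [MonoidHom.mem_ker]
    ext
    show g * x * g⁻¹ * (x : E)⁻¹ = 1
    rw [mem_centralizer_iff.mp (mem_subgroupOf.mp hx) g hg]; group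
  let F : ↥X ⧸ (centralizer (Y : Set E)).subgroupOf X →
      (↥Y ⧸ (centralizer (X : Set E)).subgroupOf Y →* ↥Z) :=
    fun q => QuotientGroup.lift _ (c (q.out : E)) (hker _ q.out.2)
  have hinj : Function.Injective F := by
    intro q q' e
    rw [← QuotientGroup.out_eq' q, ← QuotientGroup.out_eq' q', QuotientGroup.eq, mem_subgroupOf,
      mem_centralizer_iff]
    intro x hx
    have h1 : (q.out : E) * x * (q.out : E)⁻¹ * x⁻¹ = (q'.out : E) * x * (q'.out : E)⁻¹ * x⁻¹ :=
      congrArg Subtype.val (DFunLike.congr_fun e ((⟨x, hx⟩ : ↥Y) : ↥Y ⧸ (centralizer (X : Set E)).subgroupOf Y))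
    have h2 := mul_right_cancel h1
    push_cast
    calc x * ((q.out : E)⁻¹ * q'.out) = (q.out : E)⁻¹ * (q.out * x * (q.out : E)⁻¹) * q'.out := by group
      _ = (q.out : E)⁻¹ * q'.out * x := by rw [h2]; group
  haveI : Finite (↥Y ⧸ (centralizer (X : Set E)).subgroupOf Y →* ↥Z) :=
    Finite.of_injective _ DFunLike.coe_injective
  exact (Nat.card_le_card_of_injective F hinj).trans
    (Cfsg.Agent.PGroups.Basic.card_hom_le (p := p) ((hp.to_subgroup Y).to_quotient _) hZ)

/-- Centraliser duality in an extraspecial group. -/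
theorem card_mul_card_centralizer [Fact p.Prime] (hE : Cfsg.IsExtraspecial p E) (X : Subgroup E)
    (hX : center E ≤ X) : Nat.card X * Nat.card (centralizer (X : Set E)) = p * Nat.card E := by
  obtain ⟨⟨hp, -, hcomm⟩, hZ⟩ := hE
  have h : (centralizer ((⊤ : Subgroup E) : Set E)).relIndex X = (centralizer (X : Set E)).relIndex ⊤ :=
    le_antisymm (relIndex_centralizer_le hp hcomm.le hZ.le X ⊤) (relIndex_centralizer_le hp hcomm.le hZ.le ⊤ X)
  rw [relIndex_top_right, coe_top, centralizer_univ] at h
  have h3 : Nat.card X = p * (centralizer (X : Set E)).index := by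
    rw [← hZ, ← h, ← relIndex_bot_left (center E), ← relIndex_bot_left X, relIndex_mul_relIndex ⊥ (center E) X bot_le hX]
  rw [h3, mul_assoc, mul_comm (index _), Subgroup.card_mul_index]

theorem card_sq_le_of_abelian [Fact p.Prime] (hE : Cfsg.IsExtraspecial p E) (X : Subgroup E)
    [hX : IsMulCommutative X] : Nat.card X ^ 2 ≤ p * Nat.card E := by
  set Y := X ⊔ center E
  have hY : Y ≤ centralizer (Y : Set E) := by
    refine sup_le ?_ (center_le_centralizer _)
    rw [le_centralizer_iff]
    exact sup_le (le_centralizer X) (center_le_centralizer _)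
  rw [← card_mul_card_centralizer hE Y le_sup_right, sq]
  exact Nat.mul_le_mul (card_le_of_le le_sup_left) (card_le_of_le (le_sup_left.trans hY))

/-- An extraspecial group has order `p ^ (2n+1)` with `n ≥ 1`. -/
theorem exists_card_eq [hp : Fact p.Prime] (hE : Cfsg.IsExtraspecial p E) :
    ∃ n : ℕ, 1 ≤ n ∧ Nat.card E = p ^ (2 * n + 1) := by
  obtain ⟨⟨hpg, hfr, hcomm⟩, hZ⟩ := id hE
  obtain ⟨A, ⟨hA1, hA2⟩, hmax⟩ := Set.Finite.exists_maximal
    (Set.toFinite {A : Subgroup E | center E ≤ A ∧ A ≤ centralizer (A : Set E)})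
    ⟨center E, le_rfl, center_le_centralizer _⟩
  have hCA : centralizer (A : Set E) = A := by
    refine le_antisymm (fun x hx => ?_) hA2
    have hle : A ≤ A ⊔ zpowers x := le_sup_left
    have hB : A ⊔ zpowers x ≤ centralizer ((A ⊔ zpowers x : Subgroup E) : Set E) := by
      refine sup_le ?_ ?_ <;> rw [le_centralizer_iff] <;> refine sup_le ?_ ?_
      · exact hA2
      · exact zpowers_le.mpr hx
      · rw [le_centralizer_iff]; exact zpowers_le.mpr hx
      · exact le_centralizer (zpowers x)
    exact hmax ⟨hA1.trans hle, hB⟩ hle (mem_sup_right (mem_zpowers x))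
  have h := card_mul_card_centralizer hE A hA1
  rw [hCA] at h
  obtain ⟨a, ha⟩ := IsPGroup.iff_card.mp (hpg.to_subgroup A)
  obtain ⟨e, he⟩ := IsPGroup.iff_card.mp hpg
  rw [ha, he, ← pow_add, ← pow_succ'] at h
  have h' := Nat.pow_right_injective hp.out.two_le h
  have he2 : 2 ≤ e := by
    by_contra hlt
    have : IsCyclic E := by
      interval_cases e
      · haveI : Subsingleton E := (Nat.card_eq_one_iff_unique.mp (by rw [he, pow_zero])).1
        exact isCyclic_of_subsingleton
      · exact isCyclic_of_prime_card (p := p) (by rw [he, pow_one])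
    have h0 : commutator E = ⊥ := by
      rw [commutator_eq_bot_iff_center_eq_top, eq_top_iff]
      exact fun x _ => mem_center_iff.mpr fun y => (IsCyclic.commutative : IsMulCommutative E).is_comm.comm y x
    rw [h0] at hcomm
    rw [← hcomm, card_bot] at hZ
    exact hp.out.ne_one hZ.symm
  exact ⟨a - 1, by omega, by rw [he]; congr 1; omega⟩

/-- An extraspecial group has exponent dividing `p ^ 2`. -/
theorem pow_prime_sq [hp : Fact p.Prime] (hE : Cfsg.IsExtraspecial p E) (x : E) : x ^ p ^ 2 = 1 := by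
  obtain ⟨⟨hpg, hfr, -⟩, hZ⟩ := hE
  have h1 : x ^ p ∈ center E := hfr ▸ Cfsg.Agent.Solvable.Basics.pow_mem_frattini hpg x
  have h2 := pow_card_eq_one' (x := (⟨x ^ p, h1⟩ : ↥(center E)))
  rw [hZ] at h2
  rw [sq, pow_mul]
  simpa using congrArg Subtype.val h2

end Cfsg.Agent.PGroups.Extraspecial
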