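import Cfsg.Agent.Lib.Coprime.PGroup
import Mathlib.GroupTheory.PGroup
import Mathlib.Data.Nat.Choose.Dvd
import Mathlib.GroupTheory.SpecificGroups.Cyclic

/-!
The power formula in groups of class at most three: `(xy)^p = x^p y^p` when `p` is odd, the
commutator of `x` and `y` has order dividing `p` and, for `p = 3`, the class is at most two.
-/

set_option autoImplicit false

namespace Cfsg.Agent.PGroups.ClassThree

/-- Class at most three, and at most two if `p = 3`. -/
def SmallClass (p : ℕ) (G : Type*) [Group G] : Prop :=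
  ∀ u v w z : G,
    Commute ((u⁻¹ * v⁻¹ * u * v)⁻¹ * w⁻¹ * (u⁻¹ * v⁻¹ * u * v) * w) z ∧
      (p = 3 → Commute (u⁻¹ * v⁻¹ * u * v) w)

variable {G : Type*} [Group G] {p : ℕ}

theorem SmallClass.subgroup (h : SmallClass p G) (H : Subgroup G) : SmallClass p H := fun u v w z =>
  ⟨Subtype.ext (h (u : G) v w z).1.eq, fun h3 => Subtype.ext ((h (u : G) v w z).2 h3).eq⟩

theorem mul_pow_formula {x y a b e : G} (hxy : x⁻¹ * y * x = y * a) (hax : x⁻¹ * a * x = a * b)
    (hay : y⁻¹ * a * y = a * e) (hb : ∀ z, Commute b z) (he : ∀ z, Commute e z) (n : ℕ) :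
    (x * y) ^ n = x ^ n * y ^ n * a ^ n.choose 2 * b ^ n.choose 3 *
      e ^ (n.choose 3 + (n + 1).choose 3) := by
  have hyx : y * x = x * (y * a) := by rw [← hxy]; group
  have hyak : ∀ k : ℕ, (y * a) ^ k = y ^ k * a ^ k * e ^ k.choose 2 := by
    intro k
    induction k with
    | zero => simp
    | succ k ih =>
      have hak : a ^ k * y = y * (a * e) ^ k := by
        rw [← hay, show y⁻¹ * a * y = y⁻¹ * a * y⁻¹⁻¹ by rw [inv_inv], conj_pow, inv_inv]; group
      rw [pow_succ, ih, Nat.choose_succ_succ' k 1, Nat.choose_one_right]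
      calc y ^ k * a ^ k * e ^ k.choose 2 * (y * a)
          = y ^ k * (a ^ k * (e ^ k.choose 2 * y)) * a := by simp only [mul_assoc]
        _ = y ^ k * (a ^ k * y) * (e ^ k.choose 2 * a) := by
          rw [((he y).pow_left _).eq]; simp only [mul_assoc]
        _ = y ^ k * (y * (a ^ k * e ^ k)) * (a * e ^ k.choose 2) := by
          rw [hak, (he a).symm.mul_pow, ((he a).pow_left _).eq]
        _ = (y ^ k * y) * (a ^ k * (e ^ k * a)) * e ^ k.choose 2 := by simp only [mul_assoc]
        _ = y ^ (k + 1) * a ^ (k + 1) * e ^ (k + k.choose 2) := by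
          rw [((he a).pow_left _).eq, pow_succ, pow_succ, pow_add]; simp only [mul_assoc]
  induction n with
  | zero => simp [show Nat.choose 1 3 = 0 from rfl]
  | succ n ih =>
    set A := n.choose 2 with hA
    set B := n.choose 3 with hB
    set M := n.choose 3 + (n + 1).choose 3 with hM
    have hAx : a ^ A * x = x * (a * b) ^ A := by
      rw [← hax, show x⁻¹ * a * x = x⁻¹ * a * x⁻¹⁻¹ by rw [inv_inv], conj_pow, inv_inv]; group
    have hyn : y ^ n * x = x * (y * a) ^ n := by
      rw [← hxy, show x⁻¹ * y * x = x⁻¹ * y * x⁻¹⁻¹ by rw [inv_inv], conj_pow, inv_inv]; group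
    have hay' : ∀ k : ℕ, a ^ k * y = y * (a ^ k * e ^ k) := by
      intro k
      rw [← (he a).symm.mul_pow, ← hay,
        show y⁻¹ * a * y = y⁻¹ * a * y⁻¹⁻¹ by rw [inv_inv], conj_pow, inv_inv]
      group
    have hbe : ∀ z : G, b ^ B * e ^ M * z = z * (b ^ B * e ^ M) := fun z =>
      (((hb z).pow_left B).mul_left ((he z).pow_left M)).eq
    have hA1 : (n + 1).choose 2 = n + A := by
      rw [Nat.choose_succ_succ' n 1, Nat.choose_one_right]
    have hB1 : (n + 1).choose 3 = A + B := Nat.choose_succ_succ' n 2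
    have hM1 : (n + 1).choose 3 + (n + 1 + 1).choose 3 = M + A + (n + A) := by
      have h : (n + 1 + 1).choose 3 = (n + 1).choose 2 + (n + 1).choose 3 :=
        Nat.choose_succ_succ' (n + 1) 2
      rw [hM, h, hA1, hB1]; omega
    calc (x * y) ^ (n + 1)
        = x ^ n * (y ^ n * (a ^ A * (b ^ B * e ^ M * x))) * y := by
          rw [pow_succ, ih]; simp only [mul_assoc]
      _ = x ^ n * (y ^ n * (a ^ A * x)) * (b ^ B * e ^ M * y) := by
          rw [hbe x]; simp only [mul_assoc]
      _ = x ^ n * ((y ^ n * x) * (a ^ A * b ^ A)) * (y * (b ^ B * e ^ M)) := by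
          rw [hAx, (hb a).symm.mul_pow, hbe y]; simp only [mul_assoc]
      _ = x ^ n * x * (y ^ n * (a ^ n * (e ^ A * (a ^ A * b ^ A)))) * (y * (b ^ B * e ^ M)) := by
          rw [hyn, hyak, ← hA]; simp only [mul_assoc]
      _ = x ^ (n + 1) * y ^ n * (a ^ (n + A) * y) * (e ^ A * b ^ A * (b ^ B * e ^ M)) := by
          rw [pow_succ, pow_add a n A]
          rw [show e ^ A * (a ^ A * b ^ A) = a ^ A * (e ^ A * b ^ A) by
            rw [← mul_assoc, ((he (a ^ A)).pow_left A).eq, mul_assoc]]
          have h1 : e ^ A * b ^ A * y = y * (e ^ A * b ^ A) :=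
            (((he y).pow_left A).mul_left ((hb y).pow_left A)).eq
          calc x ^ n * x * (y ^ n * (a ^ n * (a ^ A * (e ^ A * b ^ A)))) * (y * (b ^ B * e ^ M))
              = x ^ n * x * (y ^ n * (a ^ n * a ^ A)) * (e ^ A * b ^ A * y) * (b ^ B * e ^ M) := by
                simp only [mul_assoc]
            _ = _ := by rw [h1]; simp only [mul_assoc]
      _ = x ^ (n + 1) * (y ^ n * y) * a ^ (n + A) *
            (e ^ (n + A) * (e ^ A * b ^ A) * (b ^ B * e ^ M)) := by
          rw [hay']; simp only [mul_assoc]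
      _ = _ := by
          rw [← pow_succ, hA1, hM1, hB1]
          have hc : Commute e b := he b
          have h2 : e ^ (n + A) * (e ^ A * b ^ A) * (b ^ B * e ^ M) =
              b ^ (A + B) * e ^ (M + A + (n + A)) := by
            calc e ^ (n + A) * (e ^ A * b ^ A) * (b ^ B * e ^ M)
                = (e ^ (n + A) * e ^ A) * (b ^ A * b ^ B) * e ^ M := by simp only [mul_assoc]
              _ = e ^ (n + A + A) * b ^ (A + B) * e ^ M := by rw [← pow_add, ← pow_add]
              _ = b ^ (A + B) * (e ^ (n + A + A) * e ^ M) := by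
                rw [(hc.pow_pow _ _).eq, mul_assoc]
              _ = _ := by
                rw [← pow_add, show n + A + A + M = M + A + (n + A) by omega]
          rw [h2]; simp only [mul_assoc]

theorem mul_pow_prime [hp : Fact p.Prime] (hp2 : p ≠ 2) (h : SmallClass p G) {x y : G}
    (ha : (y⁻¹ * x⁻¹ * y * x) ^ p = 1) : (x * y) ^ p = x ^ p * y ^ p := by
  set a := y⁻¹ * x⁻¹ * y * x with hadef
  set b := a⁻¹ * x⁻¹ * a * x with hbdef
  set e := a⁻¹ * y⁻¹ * a * y with hedef
  have hb : ∀ z, Commute b z := fun z => (h y x x z).1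
  have he : ∀ z, Commute e z := fun z => (h y x y z).1
  have hax : x⁻¹ * a * x = a * b := by rw [hbdef]; group
  have hay : y⁻¹ * a * y = a * e := by rw [hedef]; group
  have hxy : x⁻¹ * y * x = y * a := by rw [hadef]; group
  have hbp : b ^ p = 1 := by
    have h1 : (x⁻¹ * a * x⁻¹⁻¹) ^ p = 1 := by rw [conj_pow, ha, mul_one, mul_inv_cancel]
    rwa [inv_inv, hax, (hb a).symm.mul_pow, ha, one_mul] at h1
  have hep : e ^ p = 1 := by
    have h1 : (y⁻¹ * a * y⁻¹⁻¹) ^ p = 1 := by rw [conj_pow, ha, mul_one, mul_inv_cancel]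
    rwa [inv_inv, hay, (he a).symm.mul_pow, ha, one_mul] at h1
  have hzero : ∀ {g : G} {m : ℕ}, g ^ p = 1 → p ∣ m → g ^ m = 1 := by
    rintro g m hg ⟨c, rfl⟩; rw [pow_mul, hg, one_pow]
  rw [mul_pow_formula hxy hax hay hb he p,
    hzero ha (hp.out.dvd_choose_self two_ne_zero (lt_of_le_of_ne hp.out.two_le (Ne.symm hp2))),
    mul_one]
  by_cases hp3 : p = 3
  · have hab : Commute a x := (h y x x 1).2 hp3
    have hae : Commute a y := (h y x y 1).2 hp3
    have hb1 : b = 1 := by rw [hbdef, mul_assoc a⁻¹, mul_assoc, mul_assoc, hab.eq]; group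
    have he1 : e = 1 := by rw [hedef, mul_assoc a⁻¹, mul_assoc, mul_assoc, hae.eq]; group
    rw [hb1, he1, one_pow, one_pow, mul_one, mul_one]
  · have h3 : 3 < p := lt_of_le_of_ne (lt_of_le_of_ne hp.out.two_le (Ne.symm hp2)) (Ne.symm hp3)
    have hd3 := hp.out.dvd_choose_self (by norm_num : (3 : ℕ) ≠ 0) h3
    have hd2 := hp.out.dvd_choose_self (two_ne_zero) (lt_trans (by norm_num : 2 < 3) h3)
    rw [hzero hbp hd3, hzero hep (dvd_add hd3 (by
      rw [Nat.choose_succ_succ' p 2]; exact dvd_add hd2 hd3)), mul_one, mul_one]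

/-- In a finite `p`-group of small class the elements of order dividing `p` form a subgroup. -/
theorem mul_pow_eq_one [Finite G] [hp : Fact p.Prime] (hp2 : p ≠ 2) (hG : IsPGroup p G)
    (h : SmallClass p G) {x y : G} (hx : x ^ p = 1) (hy : y ^ p = 1) : (x * y) ^ p = 1 := by
  induction hn : Nat.card G using Nat.strongRecOn generalizing G with
  | ind n ih =>
  subst hn
  have ha : (y⁻¹ * x⁻¹ * y * x) ^ p = 1 := by
    set z := x⁻¹ * y * x with hz
    have hzp : z ^ p = 1 := by
      rw [hz, show x⁻¹ * y * x = x⁻¹ * y * x⁻¹⁻¹ by rw [inv_inv], conj_pow, hy, mul_one,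
        mul_inv_cancel]
    set K := Subgroup.closure {y, z} with hK
    by_cases hKtop : K = ⊤
    · haveI := hG.isNilpotent
      have hy' : Subgroup.zpowers y = ⊤ := by
        haveI : Group.IsNilpotent (⊤ : Subgroup G) :=
          Group.nilpotent_of_mulEquiv Subgroup.topEquiv.symm
        refine Cfsg.Agent.Coprime.eq_of_le_of_sup_commutator_eq le_top (eq_top_iff.mpr ?_)
        intro t _
        refine (Subgroup.closure_le _).mpr ?_ (show t ∈ K from hKtop ▸ Subgroup.mem_top t)
        intro w hw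
        rcases hw with rfl | rfl
        · exact Subgroup.mem_sup_left (Subgroup.mem_zpowers w)
        · refine (show z = y * (y⁻¹ * x⁻¹ * y * x) by rw [hz]; group) ▸
            mul_mem (Subgroup.mem_sup_left (Subgroup.mem_zpowers y)) (Subgroup.mem_sup_right ?_)
          have hm := Subgroup.commutator_mem_commutator (Subgroup.mem_top y⁻¹)
            (Subgroup.mem_top x⁻¹)
          simpa [commutatorElement_def, mul_assoc] using hm
      have hxy : Commute y x := by
        obtain ⟨i, rfl⟩ := Subgroup.mem_zpowers_iff.mp (hy' ▸ Subgroup.mem_top x)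
        exact Commute.self_zpow y i
      rw [mul_assoc, mul_assoc, hxy.eq, inv_mul_cancel_left, inv_mul_cancel, one_pow]
    · have hzK : z ∈ K := Subgroup.subset_closure (Or.inr rfl)
      have hyK : y ∈ K := Subgroup.subset_closure (Or.inl rfl)
      have h2 := @ih (Nat.card K) (lt_of_le_of_ne (Subgroup.card_le_card_group K)
        (fun he => hKtop (Subgroup.eq_top_of_card_eq K he))) K _ _ (hG.to_subgroup K) (h.subgroup K)
        ⟨y, hyK⟩⁻¹ ⟨z, hzK⟩ (by rw [inv_pow, inv_eq_one]; exact Subtype.ext hy) (Subtype.ext hzp) rfl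
      have h3 := congrArg Subtype.val h2
      rw [show y⁻¹ * x⁻¹ * y * x = y⁻¹ * z by rw [hz]; group]
      exact h3
  rw [mul_pow_prime hp2 h ha, hx, hy, one_mul]

theorem pow_eq_one_of_mem_closure [Finite G] [hp : Fact p.Prime] (hp2 : p ≠ 2) (hG : IsPGroup p G)
    (h : SmallClass p G) {g : G} (hg : g ∈ Subgroup.closure {x : G | x ^ p = 1}) : g ^ p = 1 := by
  induction hg using Subgroup.closure_induction with
  | mem x hx => exact hx
  | one => exact one_pow p
  | mul x y _ _ hx hy => exact mul_pow_eq_one hp2 hG h hx hy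
  | inv x _ hx => rw [inv_pow, hx, inv_one]

theorem smallClass_of_commutator
    (hcl : (p ≠ 2 ∧ ⁅commutator G, (⊤ : Subgroup G)⁆ = ⊥) ∨
      (p ≠ 3 ∧ ⁅⁅commutator G, (⊤ : Subgroup G)⁆, (⊤ : Subgroup G)⁆ = ⊥)) :
    SmallClass p G := by
  intro u v w z
  set a := u⁻¹ * v⁻¹ * u * v with hadef
  have ha : a ∈ commutator G := by
    have h := Subgroup.commutator_mem_commutator (Subgroup.mem_top u⁻¹) (Subgroup.mem_top v⁻¹)
    rw [commutator_def, hadef]
    simpa [commutatorElement_def, mul_assoc] using h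
  have hc : a⁻¹ * w⁻¹ * a * w ∈ ⁅commutator G, (⊤ : Subgroup G)⁆ := by
    have h := Subgroup.commutator_mem_commutator (inv_mem ha) (Subgroup.mem_top w⁻¹)
    simpa [commutatorElement_def, mul_assoc] using h
  rcases hcl with ⟨-, hcl⟩ | ⟨hp3, hcl⟩
  · rw [hcl, Subgroup.mem_bot] at hc
    exact ⟨by rw [hc]; exact Commute.one_left z, fun _ =>
      (Subgroup.mem_centralizer_iff.mp (Subgroup.commutator_eq_bot_iff_le_centralizer.mp hcl ha) w
        (Subgroup.mem_top w)).symm⟩
  · exact ⟨(Subgroup.mem_centralizer_iff.mp (Subgroup.commutator_eq_bot_iff_le_centralizer.mp hcl hc)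
      z (Subgroup.mem_top z)).symm, fun h => absurd h hp3⟩

end Cfsg.Agent.PGroups.ClassThree
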