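import Mathlib
import Cfsg.Agent.Lib.PGroups.Basic

/-!
Groups of maximal class: the lower central series, and Taussky's theorem on `2`-groups whose
commutator quotient has order four.
-/

set_option linter.all false
set_option autoImplicit false

namespace Cfsg.Agent.PGroups.MaximalClass

open Subgroup
open scoped commutatorElement

variable {G : Type*} [Group G] [Finite G] {p : ℕ} [hp : Fact p.Prime]

/-- The lower central series of `G`, starting with `G` at position `0`. -/
abbrev lcs (G : Type*) [Group G] (k : ℕ) : Subgroup G := (⊤ : Subgroup G).lowerCentralSeries k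

theorem lcs_one : lcs G 1 = commutator G := top_lowerCentralSeries_one

theorem lcs_zero : lcs G 0 = ⊤ := Subgroup.lowerCentralSeries_zero _

theorem lcs_succ (k : ℕ) : lcs G (k + 1) = ⁅lcs G k, (⊤ : Subgroup G)⁆ :=
  Subgroup.lowerCentralSeries_succ _ _

instance lcs_normal (k : ℕ) : (lcs G k).Normal := by
  induction k with
  | zero => rw [lcs_zero]; infer_instance
  | succ k ih => rw [lcs_succ]; exact commutator_normal _ _

theorem lcs_le (k : ℕ) : lcs G (k + 1) ≤ lcs G k := by
  rw [lcs_succ]; exact commutator_le_left _ _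

theorem lcs_antitone : Antitone (lcs G) := antitone_nat_of_succ_le lcs_le

theorem eq_bot_of_stable [Group.IsNilpotent G] {k : ℕ} (h : lcs G k ≤ lcs G (k + 1)) :
    lcs G k = ⊥ := by
  refine le_bot_iff.mp (Basic.le_of_le_commutator_sup (lcs G k) ⊥ ?_)
  rw [← lcs_succ, sup_bot_eq]
  exact h

theorem index_eq_pow (hG : IsPGroup p G) (N : Subgroup G) : ∃ a, N.index = p ^ a := hG.index N

theorem not_cyclic_abelianization (hG : IsPGroup p G) (hnc : commutator G ≠ ⊥) :
    ¬ IsCyclic (G ⧸ commutator G) := by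
  intro hc
  haveI := hG.isNilpotent
  refine hnc (le_bot_iff.mp ?_)
  obtain ⟨q, hq⟩ := IsCyclic.exists_generator (α := G ⧸ commutator G)
  obtain ⟨x, rfl⟩ := QuotientGroup.mk'_surjective _ q
  have hk : ∀ k, (⊤ : Subgroup G) ≤ zpowers x ⊔ lcs G k := by
    intro k
    induction k with
    | zero => rw [lcs_zero]; exact le_sup_right
    | succ k ih =>
      intro y _
      have h1 : (⊤ : Subgroup G) ≤ zpowers x ⊔ commutator G := by
        intro y _
        obtain ⟨k, hk⟩ := mem_zpowers_iff.mp (hq (QuotientGroup.mk' _ y))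
        rw [← map_zpow, QuotientGroup.mk'_apply, QuotientGroup.mk'_apply, QuotientGroup.eq] at hk
        have := mul_mem (mem_sup_left (T := commutator G) (zpow_mem (mem_zpowers x) k)) (mem_sup_right hk)
        rwa [mul_inv_cancel_left] at this
      refine (h1.trans (sup_le le_sup_left ?_)) (mem_top y)
      refine le_sup_of_le_right ?_
      rw [_root_.commutator_def, commutator_le]
      intro a _ b _
      rw [← QuotientGroup.eq_one_iff]
      show QuotientGroup.mk' (lcs G (k + 1)) ⁅a, b⁆ = 1
      rw [map_commutatorElement, commutatorElement_eq_one_iff_mul_comm]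
      set f := QuotientGroup.mk' (lcs G (k + 1))
      have hz : ∀ z ∈ lcs G k, ∀ w : G, Commute (f z) (f w) := fun z hz w => by
        rw [← commutatorElement_eq_one_iff_commute, ← map_commutatorElement]
        refine (QuotientGroup.eq_one_iff _).mpr ?_
        rw [lcs_succ]
        exact commutator_mem_commutator hz (mem_top w)
      obtain ⟨a1, ha1, a2, ha2, rfl⟩ := mem_sup_of_normal_right.mp (ih (mem_top a))
      obtain ⟨b1, hb1, b2, hb2, rfl⟩ := mem_sup_of_normal_right.mp (ih (mem_top b))
      obtain ⟨i, rfl⟩ := mem_zpowers_iff.mp ha1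
      obtain ⟨j, rfl⟩ := mem_zpowers_iff.mp hb1
      rw [map_mul]
      refine (Commute.mul_left ?_ (hz a2 ha2 _)).eq
      rw [map_mul]
      exact ((Commute.zpow_zpow_self x i j).map f).mul_right (hz b2 hb2 _).symm
  obtain ⟨m, hm⟩ := (Subgroup.nilpotent_iff_lowerCentralSeries (G := G)).mp inferInstance
  have h := hk m
  rw [show lcs G m = ⊥ from hm, sup_bot_eq] at h
  rw [_root_.commutator_def, commutator_le]
  intro a _ b _
  obtain ⟨i, rfl⟩ := mem_zpowers_iff.mp (h (mem_top a))
  obtain ⟨j, rfl⟩ := mem_zpowers_iff.mp (h (mem_top b))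
  rw [commutatorElement_eq_one_iff_commute.mpr (Commute.zpow_zpow_self x i j)]
  exact one_mem _

theorem eq_top_of_commutator_index_le (hG : IsPGroup p G) (h : (commutator G).index ∣ p) :
    commutator G = ⊥ := by
  by_contra hne
  refine not_cyclic_abelianization hG hne ?_
  rcases (Nat.dvd_prime hp.out).mp h with h1 | h1
  · haveI : Subsingleton (G ⧸ commutator G) := (Nat.card_eq_one_iff_unique.mp h1).1
    infer_instance
  · exact isCyclic_of_prime_card h1

/-- Below the first step each step of the lower central series has index at least `p`. -/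
theorem pow_dvd_index (hG : IsPGroup p G) (hnc : commutator G ≠ ⊥) :
    ∀ k, 1 ≤ k → lcs G k = ⊥ ∨ p ^ (k + 1) ∣ (lcs G k).index := by
  haveI := hG.isNilpotent
  intro k hk
  induction k, hk using Nat.le_induction with
  | base =>
    right
    rw [lcs_one]
    obtain ⟨a, ha⟩ := index_eq_pow hG (commutator G)
    have : 2 ≤ a := by
      by_contra h
      push Not at h
      refine hnc (eq_top_of_commutator_index_le hG ?_)
      rw [ha]
      exact (pow_dvd_pow p (by omega : a ≤ 1)).trans (pow_one p).dvd
    rw [ha]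
    exact pow_dvd_pow p this
  | succ k hk ih =>
    by_cases hb : lcs G (k + 1) = ⊥
    · exact Or.inl hb
    refine Or.inr ?_
    have hb' : lcs G k ≠ ⊥ := fun h => hb (le_bot_iff.mp (h ▸ lcs_le k))
    have ih' := ih.resolve_left hb'
    have hne : (lcs G (k + 1)).relIndex (lcs G k) ≠ 1 := fun h =>
      hb' (eq_bot_of_stable (relIndex_eq_one.mp h))
    obtain ⟨a, ha⟩ := (hG.to_subgroup (lcs G k)).index ((lcs G (k + 1)).subgroupOf (lcs G k))
    have ha1 : a ≠ 0 := fun h => hne (by rw [relIndex, ha, h, pow_zero])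
    rw [← relIndex_mul_index (lcs_le k), relIndex, ha, pow_succ' p (k + 1)]
    exact Nat.mul_dvd_mul (dvd_pow_self p ha1) ih'

/-- A group of order `p ^ m`, `m ≥ 2`, has class less than `m`. -/
theorem lcs_eq_bot {m : ℕ} (hm : 2 ≤ m) (hG : Nat.card G = p ^ m) : lcs G (m - 1) = ⊥ := by
  have hP : IsPGroup p G := IsPGroup.of_card hG
  by_cases hnc : commutator G = ⊥
  · exact le_bot_iff.mp (hnc ▸ lcs_one (G := G) ▸ lcs_antitone (by omega))
  rcases pow_dvd_index hP hnc (m - 1) (by omega) with h | h
  · exact h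
  · have h' := (lcs G (m - 1)).card_mul_index
    obtain ⟨t, ht⟩ := h
    rw [ht, show m - 1 + 1 = m by omega, ← hG, mul_left_comm] at h'
    exact card_eq_one.mp (Nat.eq_one_of_mul_eq_one_right
      (Nat.mul_left_cancel Nat.card_pos (h'.trans (mul_one _).symm)))

theorem class_eq_iff {n : ℕ} (hn : 3 ≤ n) (hG : Nat.card G = p ^ n) :
    Group.nilpotencyClass G = n - 1 ↔ lcs G (n - 2) ≠ ⊥ := by
  haveI := (IsPGroup.of_card hG).isNilpotent
  have h1 : Group.nilpotencyClass G ≤ n - 1 :=
    Subgroup.lowerCentralSeries_eq_bot_iff_nilpotencyClass_le.mp (lcs_eq_bot (p := p) (by omega) hG)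
  rw [Ne, Subgroup.lowerCentralSeries_eq_bot_iff_nilpotencyClass_le]
  omega

/-- The indices of the lower central series in maximal class. -/
theorem index_lcs {n : ℕ} (hn : 3 ≤ n) (hG : Nat.card G = p ^ n)
    (hcl : Group.nilpotencyClass G = n - 1) {k : ℕ} (hk : 1 ≤ k) (hk' : k ≤ n - 1) :
    (lcs G k).index = p ^ (k + 1) := by
  have hP : IsPGroup p G := IsPGroup.of_card hG
  haveI := hP.isNilpotent
  have hne := (class_eq_iff hn hG).mp hcl
  have hnc : commutator G ≠ ⊥ := fun h => hne (le_bot_iff.mp (h ▸ lcs_one (G := G) ▸ lcs_antitone (by omega)))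
  have key : ∀ d k, 1 ≤ k → k + d = n - 1 → (lcs G k).index = p ^ (k + 1) := by
    intro d
    induction d with
    | zero =>
      intro k hk hkd
      rw [show k = n - 1 by omega, lcs_eq_bot (p := p) (by omega) hG, index_bot, hG]
      congr 1; omega
    | succ d ih =>
      intro k hk hkd
      have h1 := (pow_dvd_index hP hnc k hk).resolve_left
        fun h => hne (le_bot_iff.mp (h ▸ lcs_antitone (by omega)))
      have hne' : (lcs G (k + 1)).relIndex (lcs G k) ≠ 1 := fun h =>
        hne (le_bot_iff.mp (eq_bot_of_stable (relIndex_eq_one.mp h) ▸ lcs_antitone (by omega)))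
      obtain ⟨a, ha⟩ := index_eq_pow hP (lcs G k)
      rw [ha] at h1 ⊢
      have h2 := relIndex_mul_index (lcs_le (G := G) k)
      rw [ih (k + 1) (by omega) (by omega), ha] at h2
      have hd := (Nat.pow_dvd_pow_iff_le_right hp.out.one_lt).mp h1
      have hd2 : a < k + 1 + 1 := by
        by_contra hc
        push Not at hc
        have hpos : 0 < (lcs G (k + 1)).relIndex (lcs G k) := Nat.pos_of_ne_zero fun h0 => by
          rw [h0, zero_mul] at h2
          exact (pow_ne_zero _ hp.out.ne_zero) h2.symm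
        have h3 : 2 * p ^ (k + 1 + 1) ≤ (lcs G (k + 1)).relIndex (lcs G k) * p ^ a :=
          Nat.mul_le_mul (by omega) (Nat.pow_le_pow_right hp.out.pos hc)
        rw [h2] at h3
        have := pow_pos hp.out.pos (k + 1 + 1)
        omega
      congr 1; omega
  exact key (n - 1 - k) k hk (by omega)

/-- In maximal class the normal subgroups of index at least `p ^ 2` are lower central terms. -/
theorem normal_eq_lcs {n : ℕ} (hn : 3 ≤ n) (hG : Nat.card G = p ^ n)
    (hcl : Group.nilpotencyClass G = n - 1) (N : Subgroup G) [N.Normal] {r : ℕ} (hr : 2 ≤ r)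
    (hN : N.index = p ^ r) : N = lcs G (r - 1) := by
  have hrn : r ≤ n := (Nat.pow_dvd_pow_iff_le_right hp.out.one_lt).mp (hN ▸ hG ▸ N.index_dvd_card)
  have hi := index_lcs hn hG hcl (k := r - 1) (by omega) (by omega)
  rw [show r - 1 + 1 = r by omega] at hi
  have hle : lcs G (r - 1) ≤ N := by
    have h0 : lcs (G ⧸ N) (r - 1) = ⊥ := lcs_eq_bot (p := p) hr (by rw [← index_eq_card]; exact hN)
    have hm : ∀ k, (lcs G k).map (QuotientGroup.mk' N) = lcs (G ⧸ N) k := by
      intro k
      induction k with
      | zero => rw [lcs_zero, lcs_zero, map_top_of_surjective _ (QuotientGroup.mk'_surjective N)]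
      | succ k ih =>
        rw [lcs_succ, lcs_succ, map_commutator, ih, map_top_of_surjective _ (QuotientGroup.mk'_surjective N)]
    intro x hx
    have : QuotientGroup.mk' N x ∈ lcs (G ⧸ N) (r - 1) := hm (r - 1) ▸ ⟨x, hx, rfl⟩
    rw [h0, mem_bot] at this
    exact (QuotientGroup.eq_one_iff x).mp this
  refine (eq_of_le_of_card_ge hle ?_).symm
  have h1 := N.card_mul_index
  have h2 := (lcs G (r - 1)).card_mul_index
  rw [hN] at h1
  rw [hi] at h2
  exact (Nat.eq_of_mul_eq_mul_right (pow_pos hp.out.pos r) (h1.trans h2.symm)).le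

/-- A group of order `p ^ 2` and exponent `p` has `p + 1` subgroups of order `p`. -/
theorem card_lines {Q : Type*} [Group Q] [Finite Q] (hQ : Nat.card Q = p ^ 2) (he : ∀ x : Q, x ^ p = 1) :
    Nat.card {L : Subgroup Q // Nat.card L = p} = p + 1 := by
  classical
  let e : {x : Q // x ≠ 1} ≃ Σ L : {L : Subgroup Q // Nat.card L = p}, {x : (L : Subgroup Q) // x ≠ 1} :=
    { toFun := fun x => ⟨⟨zpowers (x : Q), by
          rw [Nat.card_zpowers]
          exact orderOf_eq_prime (he _) x.2⟩, ⟨⟨x, mem_zpowers _⟩, fun h => x.2 (congrArg Subtype.val h)⟩⟩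
      invFun := fun y => ⟨((y.2 : (y.1 : Subgroup Q)) : Q), fun h => y.2.2 (Subtype.ext h)⟩
      left_inv := fun x => rfl
      right_inv := by
        rintro ⟨⟨L, hL⟩, ⟨⟨x, hx⟩, hx1⟩⟩
        have hxne : x ≠ 1 := fun h => hx1 (Subtype.ext h)
        have hz : zpowers x = L := eq_of_le_of_card_ge (zpowers_le.mpr hx) (by
          rw [hL, Nat.card_zpowers, orderOf_eq_prime (he x) hxne])
        subst hz
        rfl }
  haveI := Fintype.ofFinite {L : Subgroup Q // Nat.card L = p}
  have h := Nat.card_congr e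
  have hc : ∀ (T : Type _) [Group T] [Finite T], Nat.card {x : T // x ≠ 1} = Nat.card T - 1 := by
    intro T _ _
    haveI := Fintype.ofFinite T
    rw [Nat.card_eq_fintype_card, Fintype.card_subtype_compl, Fintype.card_subtype_eq, Nat.card_eq_fintype_card]
  rw [hc Q, hQ, Nat.card_sigma, Finset.sum_congr rfl (g := fun _ => p - 1)
    (fun L _ => by rw [hc, L.2]), Finset.sum_const, smul_eq_mul, Finset.card_univ,
    ← Nat.card_eq_fintype_card] at h
  have hp2 := hp.out.two_le
  obtain ⟨t, rfl⟩ : ∃ t, p = t + 2 := ⟨p - 2, by omega⟩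
  refine (Nat.eq_of_mul_eq_mul_right (show 0 < t + 2 - 1 by omega) ?_).symm
  rw [← h, show t + 2 - 1 = t + 1 by omega]
  have : (t + 2) ^ 2 = (t + 2 + 1) * (t + 1) + 1 := by ring
  omega

/-- A noncyclic group of order `p ^ 2` has exponent `p`. -/
theorem pow_eq_one_of_not_cyclic {Q : Type*} [Group Q] [Finite Q] (hQ : Nat.card Q = p ^ 2)
    (hc : ¬ IsCyclic Q) (x : Q) : x ^ p = 1 := by
  obtain ⟨j, hj, hjx⟩ := (Nat.dvd_prime_pow hp.out).mp (hQ ▸ orderOf_dvd_natCard x)
  rcases Nat.lt_or_ge j 2 with h | h
  · exact orderOf_dvd_iff_pow_eq_one.mp (hjx ▸ (pow_dvd_pow p (by omega : j ≤ 1)).trans (pow_one p).dvd)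
  · exact absurd (isCyclic_of_orderOf_eq_card x (by rw [hjx, hQ, show j = 2 by omega])) hc

theorem card_normal_index_prime {n : ℕ} (hn : 3 ≤ n) (hG : Nat.card G = p ^ n)
    (hcl : Group.nilpotencyClass G = n - 1) :
    Nat.card {N : Subgroup G // N.Normal ∧ N.index = p} = p + 1 := by
  have hP : IsPGroup p G := IsPGroup.of_card hG
  have hne := (class_eq_iff hn hG).mp hcl
  have hnc : commutator G ≠ ⊥ := fun h => hne (le_bot_iff.mp (h ▸ lcs_one (G := G) ▸ lcs_antitone (by omega)))
  have hidx : (commutator G).index = p ^ 2 := lcs_one (G := G) ▸ index_lcs hn hG hcl le_rfl (by omega)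
  set Q := G ⧸ commutator G with hQdef
  have hQ : Nat.card Q = p ^ 2 := by rw [hQdef, ← index_eq_card, hidx]
  rw [← card_lines (p := p) hQ (pow_eq_one_of_not_cyclic hQ (not_cyclic_abelianization hP hnc))]
  set f := QuotientGroup.mk' (commutator G)
  have hf := QuotientGroup.mk'_surjective (commutator G)
  have hle : ∀ N : Subgroup G, N.Normal → N.index = p → commutator G ≤ N := by
    intro N hN hi
    haveI : IsCyclic (G ⧸ N) := isCyclic_of_prime_card (index_eq_card N ▸ hi)
    exact Subgroup.Normal.quotient_commutative_iff_commutator_le.mp inferInstance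
  refine Nat.card_congr
    { toFun := fun N => ⟨(N : Subgroup G).map f, ?_⟩
      invFun := fun L => ⟨(L : Subgroup Q).comap f, ?_, ?_⟩
      left_inv := fun N => Subtype.ext ?_
      right_inv := fun L => Subtype.ext (map_comap_eq_self_of_surjective hf _) }
  · have h := (N : Subgroup G).index_map f
    rw [QuotientGroup.ker_mk', sup_eq_left.mpr (hle N N.2.1 N.2.2), MonoidHom.range_eq_top.mpr hf,
      index_top, mul_one, N.2.2] at h
    have h' := ((N : Subgroup G).map f).card_mul_index
    rw [h, hQ, pow_two] at h'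
    exact Nat.eq_of_mul_eq_mul_right hp.out.pos h'
  · refine ⟨fun x hx g => ?_⟩
    show f (g * x * g⁻¹) ∈ (L : Subgroup Q)
    have hQc : ∀ a b : Q, a * b = b * a :=
      fun a b => (Subgroup.Normal.quotient_commutative_iff_commutator_le.mpr (le_refl (commutator G))).is_comm.comm a b
    rw [map_mul, map_mul, hQc (f g), map_inv, mul_inv_cancel_right]
    exact hx
  · rw [index_comap_of_surjective _ hf]
    have h' := (L : Subgroup Q).card_mul_index
    rw [L.2, hQ, pow_two] at h'
    exact Nat.eq_of_mul_eq_mul_left hp.out.pos h'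
  · show ((N : Subgroup G).map f).comap f = N
    rw [comap_map_eq, QuotientGroup.ker_mk', sup_eq_left.mpr (hle N N.2.1 N.2.2)]

/-- In maximal class the centre is the last term and has order `p`. -/
theorem center_eq {n : ℕ} (hn : 3 ≤ n) (hG : Nat.card G = p ^ n) (hcl : Group.nilpotencyClass G = n - 1) :
    center G = lcs G (n - 2) ∧ Nat.card (center G) = p := by
  have hP : IsPGroup p G := IsPGroup.of_card hG
  haveI := hP.isNilpotent
  have hne := (class_eq_iff hn hG).mp hcl
  obtain ⟨r, hr⟩ := index_eq_pow hP (center G)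
  have hr2 : 2 ≤ r := by
    by_contra h
    push Not at h
    have hcyc : IsCyclic (G ⧸ center G) := by
      interval_cases r
      · haveI : Subsingleton (G ⧸ center G) := (Nat.card_eq_one_iff_unique.mp (index_eq_card (center G) ▸ hr)).1
        infer_instance
      · exact isCyclic_of_prime_card (p := p) (by rw [← index_eq_card, hr, pow_one])
    have hab : IsMulCommutative G :=
      MonoidHom.isMulCommutative_of_isCyclic_of_ker_le_center (QuotientGroup.mk' (center G)) (by simp)
    refine hne (le_bot_iff.mp (le_trans (lcs_antitone (G := G) (show 1 ≤ n - 2 by omega)) ?_))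
    rw [lcs_one, _root_.commutator_def, commutator_le]
    intro a _ b _
    rw [commutatorElement_eq_one_iff_mul_comm.mpr (hab.is_comm.comm a b)]
    exact one_mem _
  have hrn : r ≤ n := (Nat.pow_dvd_pow_iff_le_right hp.out.one_lt).mp (hr ▸ hG ▸ (center G).index_dvd_card)
  have hz := normal_eq_lcs hn hG hcl (center G) hr2 hr
  have hr' : r = n - 1 := by
    haveI : Nontrivial G := Finite.one_lt_card_iff_nontrivial.mp
      (hG ▸ Nat.one_lt_pow (by omega) hp.out.one_lt)
    have hZ : center G ≠ ⊥ := (nontrivial_iff_ne_bot _).mp hP.center_nontrivial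
    have h1 : r ≠ n := fun h => hZ (by rw [hz, h, lcs_eq_bot (p := p) (by omega) hG])
    have h2 : lcs G r = ⊥ := by
      rw [show r = r - 1 + 1 by omega, lcs_succ, ← hz, commutator_eq_bot_iff_le_centralizer]
      exact fun z hz' g _ => (mem_center_iff.mp hz' g)
    by_contra h3
    exact hne (le_bot_iff.mp (h2 ▸ lcs_antitone (by omega)))
  refine ⟨by rw [hz, hr', show n - 1 - 1 = n - 2 by omega], ?_⟩
  have h := (center G).card_mul_index
  rw [hr, hr', hG, show p ^ n = p * p ^ (n - 1) by rw [← pow_succ']; congr 1; omega] at h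
  exact Nat.eq_of_mul_eq_mul_right (pow_pos hp.out.pos _) h

end Cfsg.Agent.PGroups.MaximalClass
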