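import Cfsg.Agent.Lib.PGroups.UniqueSubgroup
import Mathlib

/-!
A non-abelian `p`-group with a cyclic subgroup of index `p`: the action of an outside element.
-/

set_option autoImplicit false

namespace Cfsg.Agent.PGroups.CyclicMaximal

/-- A generator of the cyclic maximal subgroup and an element outside with its exponent. -/
theorem setup {G : Type*} [Group G] [Finite G] {p : ℕ} [Fact p.Prime] (n : ℕ) (hn : 3 ≤ n)
    (hG : Nat.card G = p ^ n) (C : Subgroup G) (hC : IsCyclic C) (hCi : C.index = p)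
    (hna : ∃ x y : G, x * y ≠ y * x) :
    ∃ a b : G, ∃ r s : ℕ, C = Subgroup.zpowers a ∧ orderOf a = p ^ (n - 1) ∧ b ∉ C ∧
      r < p ^ (n - 1) ∧ b * a * b⁻¹ = a ^ r ∧ b ^ p = a ^ s ∧ r ≠ 1 ∧ r ^ p ≡ 1 [MOD p ^ (n - 1)] ∧
      p ∣ s := by
  have hp := (Fact.out : p.Prime)
  obtain ⟨a, ha⟩ := (Subgroup.isCyclic_iff_exists_zpowers_eq_top C).mp hC
  subst ha
  have hoa : orderOf a = p ^ (n - 1) := by
    have := (Subgroup.zpowers a).index_mul_card
    rw [hCi, Nat.card_zpowers, hG, ← Nat.sub_add_cancel (show 1 ≤ n by omega), pow_succ'] at this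
    simpa using Nat.eq_of_mul_eq_mul_left hp.pos this
  have hn' : (Subgroup.zpowers a).Normal := Subgroup.normal_of_index_eq_minFac_card (by
    rw [hCi, hG, Nat.Prime.pow_minFac hp (by omega)])
  obtain ⟨b, hb⟩ : ∃ b, b ∉ Subgroup.zpowers a := by
    by_contra h
    push Not at h
    rw [Subgroup.eq_top_iff' _ |>.mpr h, Subgroup.index_top] at hCi
    exact hp.ne_one hCi.symm
  have hexp : ∀ z ∈ Subgroup.zpowers a, ∃ k, k < p ^ (n - 1) ∧ z = a ^ k := fun z hz => by
    obtain ⟨k, hk⟩ := (mem_powers_iff_mem_zpowers (x := a)).mpr hz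
    refine ⟨k % p ^ (n - 1), Nat.mod_lt _ (pow_pos hp.pos _), ?_⟩
    rw [← hoa, pow_mod_orderOf]; exact hk.symm
  obtain ⟨r, hrlt, hr⟩ := hexp _ (hn'.conj_mem a (Subgroup.mem_zpowers a) b)
  obtain ⟨s, -, hs⟩ := hexp _ (hCi ▸ (Subgroup.zpowers a).pow_index_mem b)
  have hgen : Subgroup.closure {a, b} = ⊤ := by
    have hle : Subgroup.zpowers a ≤ Subgroup.closure {a, b} :=
      Subgroup.zpowers_le.mpr (Subgroup.subset_closure (Set.mem_insert _ _))
    have h1 := Subgroup.index_dvd_of_le hle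
    rw [hCi, Nat.dvd_prime hp] at h1
    rcases h1 with h1 | h1
    · exact Subgroup.index_eq_one.mp h1
    · refine absurd ?_ hb
      have h2 := Subgroup.relIndex_mul_index hle
      rw [h1, hCi] at h2
      have h3 : (Subgroup.zpowers a).relIndex (Subgroup.closure {a, b}) = 1 :=
        Nat.eq_of_mul_eq_mul_right hp.pos (h2.trans (one_mul p).symm)
      exact Subgroup.relIndex_eq_one.mp h3 (Subgroup.subset_closure (Set.mem_insert_of_mem _ rfl))
  have hab : b * a * b⁻¹ ≠ a := by
    intro h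
    obtain ⟨x, y, hxy⟩ := hna
    apply hxy
    have hcomm : a * b = b * a := by
      rw [mul_inv_eq_iff_eq_mul] at h
      exact h.symm
    have hc : IsMulCommutative (Subgroup.closure ({a, b} : Set G)) :=
      Subgroup.isMulCommutative_closure (by
        rintro u (rfl | rfl) v (rfl | rfl)
        · rfl
        · exact hcomm
        · exact hcomm.symm
        · rfl)
    exact congrArg Subtype.val (hc.is_comm.comm ⟨x, hgen ▸ Subgroup.mem_top x⟩ ⟨y, hgen ▸ Subgroup.mem_top y⟩)
  refine ⟨a, b, r, s, rfl, hoa, hb, hrlt, hr, hs, fun h => hab (by rw [hr, h, pow_one]), ?_, ?_⟩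
  · rw [← hoa, ← pow_eq_pow_iff_modEq, pow_one,
      ← Cfsg.Agent.PGroups.UniqueSubgroup.pow_conj_eq hr p, hs]
    group
  · by_contra hps
    have hne : p ^ (n - 1) ≠ 0 := (pow_pos hp.pos _).ne'
    have hcop : Nat.Coprime (orderOf a) s := by
      rw [hoa]; exact (hp.coprime_iff_not_dvd.mpr hps).pow_left _
    have has : a ∈ Subgroup.zpowers b := by
      have : a ∈ Subgroup.zpowers (a ^ s) :=
        mem_zpowers_pow_iff.mpr hcop.symm
      obtain ⟨k, hk⟩ := Subgroup.mem_zpowers_iff.mp this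
      rw [← hs] at hk
      rw [← hk]
      exact zpow_mem (pow_mem (Subgroup.mem_zpowers b) p) k
    apply hab
    obtain ⟨k, hk⟩ := Subgroup.mem_zpowers_iff.mp has
    rw [← hk]
    group

end Cfsg.Agent.PGroups.CyclicMaximal
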