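import Mathlib
import Cfsg.Agent.Lib.PGroups.MaximalClass

/-!
Taussky's theorem: a `2`-group whose commutator quotient has order four has a cyclic subgroup of
index two, hence maximal class, and its central quotient is dihedral.
-/

set_option linter.all false
set_option autoImplicit false

namespace Cfsg.Agent.PGroups.Taussky

open Subgroup MaximalClass
open scoped commutatorElement

theorem index_two_conj_mem {G : Type*} [Group G] {C : Subgroup G} (hi : C.index = 2) :
    C.Normal ∧ ∀ g : G, g ∉ C → ∀ x : G, x ∈ C ∨ g⁻¹ * x ∈ C := by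
  refine ⟨Subgroup.normal_of_index_eq_two hi, fun g hg x => ?_⟩
  by_cases hx : x ∈ C
  · exact Or.inl hx
  · refine Or.inr ?_
    rw [Subgroup.mul_mem_iff_of_index_two hi]
    exact ⟨fun h => absurd (inv_mem_iff.mp h) hg, fun h => absurd h hx⟩

/-- With an abelian subgroup of index two the derived group consists of commutators with a fixed
outside element. -/
theorem commutator_le_range {G : Type*} [Group G] {C : Subgroup G} (hi : C.index = 2)
    (hC : ∀ x ∈ C, ∀ y ∈ C, x * y = y * x) {g : G} (hg : g ∉ C) :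
    ∃ φ : C →* C, (∀ x : C, (φ x : G) = ⁅g, (x : G)⁆) ∧ commutator G ≤ φ.range.map C.subtype := by
  obtain ⟨hn, hcos⟩ := index_two_conj_mem hi
  have hconj : ∀ x ∈ C, g * x * g⁻¹ ∈ C := fun x hx => hn.conj_mem x hx g
  have hmem : ∀ x : C, ⁅g, (x : G)⁆ ∈ C := fun x => by
    rw [commutatorElement_def]; exact mul_mem (hconj x x.2) (inv_mem x.2)
  let φ : C →* C := MonoidHom.mk' (fun x => ⟨⁅g, (x : G)⁆, hmem x⟩) fun a b => Subtype.ext (by
    show ⁅g, (a : G) * b⁆ = ⁅g, (a : G)⁆ * ⁅g, (b : G)⁆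
    simp only [commutatorElement_def]
    calc g * (↑a * ↑b) * g⁻¹ * (↑a * ↑b)⁻¹ = (g * ↑a * g⁻¹) * ((g * ↑b * g⁻¹ * (↑b : G)⁻¹) * (↑a : G)⁻¹) := by group
      _ = (g * ↑a * g⁻¹) * ((↑a : G)⁻¹ * (g * ↑b * g⁻¹ * (↑b : G)⁻¹)) := by rw [hC _ (mul_mem (hconj b b.2) (inv_mem b.2)) _ (inv_mem a.2)]
      _ = _ := by group)
  refine ⟨φ, fun _ => rfl, ?_⟩
  set R := φ.range.map C.subtype with hR
  have hRC : R ≤ C := map_subtype_le _
  haveI hRn : R.Normal := by
    refine ⟨fun r hr y => ?_⟩
    obtain ⟨_, ⟨x, rfl⟩, rfl⟩ := hr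
    have hrC : ((φ x : C) : G) ∈ C := (φ x).2
    rcases hcos g hg y with hy | hy
    · show y * (φ x : G) * y⁻¹ ∈ R
      rw [hC y hy _ hrC, mul_inv_cancel_right]
      exact ⟨φ x, ⟨x, rfl⟩, rfl⟩
    · refine ⟨φ ⟨g * x * g⁻¹, hconj x x.2⟩, ⟨_, rfl⟩, ?_⟩
      show ⁅g, g * (x : G) * g⁻¹⁆ = y * ⁅g, (x : G)⁆ * y⁻¹
      obtain ⟨c, hc, rfl⟩ : ∃ c ∈ C, y = g * c := ⟨g⁻¹ * y, hy, (mul_inv_cancel_left g y).symm⟩
      calc ⁅g, g * (x : G) * g⁻¹⁆ = g * ⁅g, (x : G)⁆ * g⁻¹ := by simp only [commutatorElement_def]; group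
        _ = g * (c * ⁅g, (x : G)⁆ * c⁻¹) * g⁻¹ := by rw [hC c hc _ (hmem x), mul_inv_cancel_right]
        _ = _ := by group
  rw [_root_.commutator_def, commutator_le]
  set f := QuotientGroup.mk' R
  have hgC : ∀ x ∈ C, Commute (f g) (f x) := fun x hx => by
    rw [← commutatorElement_eq_one_iff_commute, ← map_commutatorElement]
    exact (QuotientGroup.eq_one_iff _).mpr ⟨φ ⟨x, hx⟩, ⟨_, rfl⟩, rfl⟩
  have hCC : ∀ x ∈ C, ∀ y ∈ C, Commute (f x) (f y) := fun x hx y hy =>
    (show Commute x y from hC x hx y hy).map f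
  have hC' : ∀ x ∈ C, ∀ y, Commute (f x) (f y) := by
    intro x hx y
    rcases hcos g hg y with hy | hy
    · exact hCC x hx y hy
    · have := (hgC x hx).symm.mul_right (hCC x hx _ hy)
      rwa [← map_mul, mul_inv_cancel_left] at this
  intro a _ b _
  refine (QuotientGroup.eq_one_iff _).mp ?_
  show f ⁅a, b⁆ = 1
  rw [map_commutatorElement, commutatorElement_eq_one_iff_commute]
  rcases hcos g hg a with ha | ha
  · exact hC' a ha b
  rcases hcos g hg b with hb | hb
  · exact (hC' b hb a).symm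
  have h1 : f a = f g * f (g⁻¹ * a) := by rw [← map_mul, mul_inv_cancel_left]
  have h2 : f b = f g * f (g⁻¹ * b) := by rw [← map_mul, mul_inv_cancel_left]
  rw [h1, h2]
  exact ((Commute.refl (f g)).mul_right (hgC _ hb)).mul_left ((hgC _ ha).symm.mul_right (hCC _ ha _ hb))

/-- Taussky's theorem. -/
theorem exists_cyclic {G : Type*} [Group G] [Finite G] : ∀ n, 3 ≤ n → Nat.card G = 2 ^ n →
    (commutator G).index = 4 → ∃ C : Subgroup G, IsCyclic C ∧ C.index = 2 := by
  haveI : Fact (Nat.Prime 2) := ⟨Nat.prime_two⟩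
  intro n hn
  induction n, hn using Nat.le_induction generalizing G with
  | base =>
    intro hG hidx
    by_cases h : ∃ x : G, ¬ x ^ 2 = 1
    · obtain ⟨x, hx⟩ := h
      obtain ⟨j, hj, hjx⟩ := (Nat.dvd_prime_pow Nat.prime_two).mp (hG ▸ orderOf_dvd_natCard x)
      have hj2 : 2 ≤ j := by
        by_contra hc
        exact hx (orderOf_dvd_iff_pow_eq_one.mp (hjx ▸ (pow_dvd_pow 2 (by omega : j ≤ 1)).trans (pow_one 2).dvd))
      have hj3 : j = 2 := by
        by_contra hne
        haveI : IsCyclic G := isCyclic_of_orderOf_eq_card x (by rw [hjx, hG, show j = 3 by omega])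
        have : commutator G = ⊥ := by
          letI := IsCyclic.commGroup (α := G)
          rw [_root_.commutator_def, eq_bot_iff, commutator_le]
          intro a _ b _
          rw [mem_bot, commutatorElement_eq_one_iff_mul_comm, mul_comm]
        rw [this, index_bot, hG] at hidx
        norm_num at hidx
      refine ⟨zpowers x, inferInstance, ?_⟩
      have h := (zpowers x).card_mul_index
      rw [Nat.card_zpowers, hjx, hj3, hG] at h
      omega
    · push Not at h
      exfalso
      have hc : commutator G = ⊥ := by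
        rw [_root_.commutator_def, eq_bot_iff, commutator_le]
        intro a _ b _
        rw [mem_bot, commutatorElement_eq_one_iff_mul_comm]
        have hinv : ∀ x : G, x⁻¹ = x := fun x => inv_eq_of_mul_eq_one_right (by rw [← pow_two]; exact h x)
        calc a * b = (a * b)⁻¹ := (hinv _).symm
          _ = b⁻¹ * a⁻¹ := mul_inv_rev a b
          _ = b * a := by rw [hinv, hinv]
      rw [hc, index_bot, hG] at hidx
      norm_num at hidx
  | succ n hn IH =>
    intro hG hidx
    have hP : IsPGroup 2 G := IsPGroup.of_card hG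
    haveI := hP.isNilpotent
    set D := commutator G with hD
    have hcD : Nat.card D = 2 ^ (n - 1) := by
      have h := D.card_mul_index
      rw [hidx, hG, show n + 1 = n - 1 + 2 by omega, pow_add] at h
      exact Nat.eq_of_mul_eq_mul_right (by norm_num) h
    -- a central subgroup of order two in the derived group
    obtain ⟨m, hm⟩ := (Subgroup.nilpotent_iff_lowerCentralSeries (G := G)).mp inferInstance
    have hex : ∃ z ∈ D, z ∈ center G ∧ orderOf z = 2 := by
      classical
      have hm' : ∃ m, lcs G m = ⊥ := ⟨m, hm⟩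
      set k := Nat.find hm'
      have hk : lcs G k = ⊥ := Nat.find_spec hm'
      have hD1 : D ≠ ⊥ := fun h => by
        rw [h, card_bot] at hcD
        exact absurd hcD.symm (Nat.one_lt_two_pow (by omega)).ne'
      have hk2 : 2 ≤ k := by
        by_contra hc
        exact hD1 (le_bot_iff.mp (((lcs_one (G := G)).ge.trans (lcs_antitone (show k ≤ 1 by omega))).trans hk.le))
      have hne : lcs G (k - 1) ≠ ⊥ := Nat.find_min hm' (by omega)
      obtain ⟨j, hj⟩ := (hP.to_subgroup (lcs G (k - 1))).exists_card_eq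
      have hj1 : j ≠ 0 := fun h => hne (card_eq_one.mp (by rw [hj, h, pow_zero]))
      obtain ⟨⟨z, hz⟩, hzo⟩ := exists_prime_orderOf_dvd_card' (G := lcs G (k - 1)) 2 (hj ▸ dvd_pow_self 2 hj1)
      refine ⟨z, (lcs_one (G := G)).le (lcs_antitone (by omega : 1 ≤ k - 1) hz), ?_, ?_⟩
      · rw [show k = k - 1 + 1 by omega, lcs_succ, commutator_eq_bot_iff_le_centralizer] at hk
        exact mem_center_iff.mpr fun g => hk hz g (mem_top g)
      · rwa [← Subgroup.orderOf_coe] at hzo
    obtain ⟨z, hzD, hzc, hzo⟩ := hex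
    set Z := zpowers z with hZdef
    haveI hZn : Z.Normal := ⟨fun w hw g => by
      have : w ∈ center G := (zpowers_le.mpr hzc) hw
      rw [mem_center_iff.mp this g, mul_inv_cancel_right]; exact hw⟩
    have hZc : Nat.card Z = 2 := by rw [hZdef, Nat.card_zpowers, hzo]
    have hZD : Z ≤ D := zpowers_le.mpr hzD
    set q := QuotientGroup.mk' Z
    have hq := QuotientGroup.mk'_surjective Z
    have hQ : Nat.card (G ⧸ Z) = 2 ^ n := by
      have h := card_eq_card_quotient_mul_card_subgroup Z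
      rw [hG, hZc, pow_succ] at h
      exact (Nat.eq_of_mul_eq_mul_right two_pos h).symm
    have hQi : (commutator (G ⧸ Z)).index = 4 := by
      have h1 : commutator (G ⧸ Z) = D.map q := by
        rw [hD, _root_.commutator_def, _root_.commutator_def, map_commutator, map_top_of_surjective _ hq]
      rw [h1, index_map, QuotientGroup.ker_mk', sup_eq_left.mpr hZD, MonoidHom.range_eq_top.mpr hq,
        index_top, mul_one, hidx]
    obtain ⟨Cb, hCb, hCbi⟩ := IH hQ hQi
    obtain ⟨cb, hcb⟩ := isCyclic_iff_exists_zpowers_eq_top.mp hCb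
    obtain ⟨c, hc⟩ := hq (cb : G ⧸ Z)
    set C := Cb.comap q with hC
    have hCi : C.index = 2 := by rw [hC, index_comap_of_surjective _ hq, hCbi]
    have hcC : c ∈ C := by show q c ∈ Cb; rw [hc]; exact cb.2
    have hdec : ∀ x ∈ C, ∃ i : ℤ, (c ^ i)⁻¹ * x ∈ Z := by
      intro x hx
      obtain ⟨i, hi⟩ := mem_zpowers_iff.mp (hcb ▸ mem_top (⟨q x, hx⟩ : Cb))
      refine ⟨i, ?_⟩
      rw [← QuotientGroup.eq]
      show q (c ^ i) = q x
      rw [map_zpow, hc]
      exact congrArg Subtype.val hi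
    have hab : ∀ x ∈ C, ∀ y ∈ C, x * y = y * x := by
      intro x hx y hy
      obtain ⟨i, hi⟩ := hdec x hx
      obtain ⟨j, hj⟩ := hdec y hy
      have hzc' : ∀ w ∈ Z, ∀ v : G, Commute w v := fun w hw v =>
        (mem_center_iff.mp ((zpowers_le.mpr hzc) hw) v).symm
      rw [← mul_inv_cancel_left (c ^ i) x, ← mul_inv_cancel_left (c ^ j) y]
      exact (((Commute.zpow_zpow_self c i j).mul_right (hzc' _ hj _).symm).mul_left (hzc' _ hi _)).eq
    by_cases hcyc : IsCyclic C
    · exact ⟨C, hcyc, hCi⟩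
    exfalso
    have hCc : Nat.card C = 2 ^ n := by
      have h := C.card_mul_index
      rw [hCi, hG, pow_succ] at h
      exact Nat.eq_of_mul_eq_mul_right two_pos h
    have hZC : Z ≤ C := (QuotientGroup.ker_mk' Z).ge.trans (MonoidHom.ker_le_comap _ _)
    have hexp : ∀ x ∈ C, x ^ 2 ^ (n - 1) = 1 := by
      intro x hx
      obtain ⟨j, hj, hjx⟩ := (Nat.dvd_prime_pow Nat.prime_two).mp
        (hCc ▸ Subgroup.orderOf_dvd_natCard C hx)
      refine orderOf_dvd_iff_pow_eq_one.mp (hjx ▸ pow_dvd_pow 2 ?_)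
      by_contra hlt
      exact hcyc (isCyclic_of_orderOf_eq_card (⟨x, hx⟩ : C) (by
        rw [← Subgroup.orderOf_coe, hjx, hCc, show j = n by omega]))
    obtain ⟨g, hg⟩ : ∃ g, g ∉ C := by
      by_contra h
      push Not at h
      rw [(Subgroup.eq_top_iff' C).mpr h, index_top] at hCi
      norm_num at hCi
    obtain ⟨φ, hφ, hle⟩ := commutator_le_range hCi hab hg
    set y := φ ⟨c, hcC⟩ with hy
    have hφc : ∀ x : C, φ x ∈ zpowers y := by
      intro x
      obtain ⟨i, hi⟩ := hdec x x.2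
      have hx : x = ⟨c, hcC⟩ ^ i * ⟨(c ^ i)⁻¹ * x, mul_mem (inv_mem (zpow_mem hcC i)) x.2⟩ := Subtype.ext (by
        push_cast; exact (mul_inv_cancel_left _ _).symm)
      have h1 : φ ⟨(c ^ i)⁻¹ * x, mul_mem (inv_mem (zpow_mem hcC i)) x.2⟩ = 1 := Subtype.ext (by
        rw [hφ]
        exact commutatorElement_eq_one_iff_mul_comm.mpr (mem_center_iff.mp ((zpowers_le.mpr hzc) hi) g))
      rw [hx, map_mul, map_zpow, h1, mul_one]
      exact zpow_mem (mem_zpowers y) i
    have hDy : D ≤ zpowers (y : G) := by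
      refine hle.trans ?_
      rintro _ ⟨_, ⟨x, rfl⟩, rfl⟩
      obtain ⟨i, hi⟩ := mem_zpowers_iff.mp (hφc x)
      exact mem_zpowers_iff.mpr ⟨i, by rw [← hi]; rfl⟩
    have hyo : 2 ^ (n - 1) ∣ orderOf (y : G) := by
      rw [← hcD, ← Nat.card_zpowers]; exact card_dvd_of_le hDy
    -- `y` is a square modulo the centre
    obtain ⟨t, ht⟩ := hdec y y.2
    have hyD : (y : G) ∈ D := by
      rw [hy, hφ, hD, _root_.commutator_def]
      exact commutator_mem_commutator (mem_top g) (mem_top c)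
    have hteven : Even t := by
      rcases Int.even_or_odd t with h | h
      · exact h
      exfalso
      obtain ⟨s, rfl⟩ := h
      have hsq : ∀ x ∈ C, q x ∈ D.map q := by
        intro x hx
        obtain ⟨i, hi⟩ := hdec x hx
        have hx' : q x = q c ^ i := by
          rw [← map_zpow]; exact (QuotientGroup.eq.mpr hi).symm
        have hyq : q (y : G) = q c ^ (2 * s + 1) := by
          rw [← map_zpow]; exact (QuotientGroup.eq.mpr ht).symm
        have hsq2 : q c ^ (2 : ℤ) ∈ D.map q := by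
          refine ⟨c ^ (2 : ℤ), ?_, map_zpow q c 2⟩
          haveI : D.Normal := inferInstance
          refine (QuotientGroup.eq_one_iff (N := D) _).mp ?_
          have h4 : Nat.card (G ⧸ D) = 4 := by rw [← index_eq_card, hidx]
          have hnc := not_cyclic_abelianization (p := 2) hP (fun h => by
            rw [← hD] at h; rw [h, card_bot] at hcD
            exact absurd hcD.symm (Nat.one_lt_two_pow (by omega)).ne')
          show QuotientGroup.mk' D (c ^ (2 : ℤ)) = 1
          rw [map_zpow, zpow_ofNat]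
          exact pow_eq_one_of_not_cyclic (p := 2) (by rw [h4]; rfl) hnc _
        rw [hx']
        have hyD' : q c ^ (2 * s + 1) ∈ D.map q := hyq ▸ ⟨_, hyD, rfl⟩
        have h1 : q c ∈ D.map q := by
          rw [zpow_add, zpow_mul, zpow_one] at hyD'
          exact (mul_mem_cancel_left (zpow_mem hsq2 s)).mp hyD'
        exact zpow_mem h1 i
      have hCD : C ≤ D := fun x hx => by
        obtain ⟨d, hd, hde⟩ := hsq x hx
        have := mul_mem hd (hZD (QuotientGroup.eq.mp hde))
        rwa [mul_inv_cancel_left] at this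
      have := card_dvd_of_le hCD
      rw [hCc, hcD, Nat.pow_dvd_pow_iff_le_right one_lt_two] at this
      omega
    obtain ⟨s, rfl⟩ := hteven
    have hy2 : (y : G) ^ 2 ^ (n - 2) = 1 := by
      set w := (c ^ (s + s))⁻¹ * (y : G) with hw
      have hyw : (y : G) = c ^ (s + s) * w := (mul_inv_cancel_left _ _).symm
      have hcw : Commute (c ^ (s + s)) w := (mem_center_iff.mp ((zpowers_le.mpr hzc) ht) _)
      rw [hyw, hcw.mul_pow]
      have hw1 : w ^ 2 ^ (n - 2) = 1 := by
        refine orderOf_dvd_iff_pow_eq_one.mp ((Z.orderOf_dvd_natCard ht).trans ?_)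
        rw [hZc]; exact dvd_pow_self 2 (by omega)
      have hc1 : (c ^ (s + s)) ^ 2 ^ (n - 2) = 1 := by
        rw [← two_mul, mul_comm 2 s, zpow_mul, zpow_ofNat, ← pow_mul, ← pow_succ',
          show n - 2 + 1 = n - 1 by omega]
        exact hexp _ (zpow_mem hcC s)
      rw [hc1, hw1, mul_one]
    have := hyo.trans (orderOf_dvd_of_pow_eq_one hy2)
    rw [Nat.pow_dvd_pow_iff_le_right one_lt_two] at this
    omega

/-- The structure of a `2`-group with a cyclic subgroup of index two and commutator index four. -/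
theorem structure_two {G : Type*} [Group G] [Finite G] {n : ℕ} (hn : 3 ≤ n) (hG : Nat.card G = 2 ^ n)
    (hidx : (commutator G).index = 4) :
    ∃ c g : G, orderOf c = 2 ^ (n - 1) ∧ g ∉ zpowers c ∧ (zpowers c).index = 2 ∧
      ∃ r : ℤ, g * c * g⁻¹ = c ^ r ∧ ∃ s : ℤ, r - 1 = 2 * s ∧ Odd s := by
  haveI : Fact (Nat.Prime 2) := ⟨Nat.prime_two⟩
  obtain ⟨C, hC, hCi⟩ := exists_cyclic n hn hG hidx
  obtain ⟨⟨c, hcC⟩, hc⟩ := isCyclic_iff_exists_zpowers_eq_top.mp hC
  have hz : zpowers c = C := by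
    refine le_antisymm (zpowers_le.mpr hcC) fun x hx => ?_
    obtain ⟨i, hi⟩ := mem_zpowers_iff.mp (hc ▸ mem_top (⟨x, hx⟩ : C))
    exact mem_zpowers_iff.mpr ⟨i, congrArg Subtype.val hi⟩
  obtain ⟨g, hg⟩ : ∃ g, g ∉ C := by
    by_contra h
    push Not at h
    rw [(Subgroup.eq_top_iff' C).mpr h, index_top] at hCi
    norm_num at hCi
  have hCc : Nat.card C = 2 ^ (n - 1) := by
    have h := C.card_mul_index
    rw [hCi, hG, show n = n - 1 + 1 by omega, pow_succ] at h
    exact Nat.eq_of_mul_eq_mul_right two_pos h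
  have hco : orderOf c = 2 ^ (n - 1) := by rw [← Nat.card_zpowers, hz, hCc]
  obtain ⟨r, hr⟩ := mem_zpowers_iff.mp (hz ▸ (index_two_conj_mem hCi).1.conj_mem c hcC g)
  refine ⟨c, g, hco, hz ▸ hg, hz ▸ hCi, r, hr.symm, ?_⟩
  have hab : ∀ x ∈ C, ∀ y ∈ C, x * y = y * x := by
    rw [← hz]
    intro x hx y hy
    obtain ⟨i, rfl⟩ := mem_zpowers_iff.mp hx
    obtain ⟨j, rfl⟩ := mem_zpowers_iff.mp hy
    exact (Commute.zpow_zpow_self c i j).eq
  obtain ⟨φ, hφ, hle⟩ := commutator_le_range hCi hab hg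
  have hDle : commutator G ≤ zpowers (c ^ (r - 1)) := by
    refine hle.trans ?_
    rintro _ ⟨_, ⟨⟨x, hx⟩, rfl⟩, rfl⟩
    obtain ⟨i, rfl⟩ := mem_zpowers_iff.mp (hz.ge hx)
    show ((φ ⟨c ^ i, hx⟩ : C) : G) ∈ _
    rw [hφ, commutatorElement_def, ← conj_zpow, ← hr, ← zpow_mul, ← zpow_neg, ← zpow_add]
    exact mem_zpowers_iff.mpr ⟨i, by rw [← zpow_mul]; congr 1; ring⟩
  have hD : Nat.card ↥(commutator G) = 2 ^ (n - 2) := by
    have h := (commutator G).card_mul_index
    rw [hidx, hG, show n = n - 2 + 2 by omega, pow_add] at h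
    exact Nat.eq_of_mul_eq_mul_right (by norm_num) h
  have hpar : c ^ (r - 1) ∈ commutator G := by
    rw [zpow_sub, zpow_one, hr, ← commutatorElement_def, _root_.commutator_def]
    exact commutator_mem_commutator (mem_top g) (mem_top c)
  have hd : Nat.card ↥(zpowers (c ^ (r - 1))) = 2 ^ (n - 2) := by
    rw [← hD, le_antisymm hDle (zpowers_le.mpr hpar)]
  rw [Nat.card_zpowers] at hd
  rcases Int.even_or_odd (r - 1) with ⟨s, hs⟩ | ⟨t, ht⟩
  · refine ⟨s, by omega, ?_⟩
    rcases Int.even_or_odd s with ⟨u, hu⟩ | h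
    · exfalso
      have h1 : (c ^ (r - 1)) ^ 2 ^ (n - 3) = 1 := by
        rw [← zpow_natCast (c ^ (r - 1)), ← zpow_mul]
        refine (orderOf_dvd_iff_zpow_eq_one).mp ?_
        rw [hco, hs, hu]
        refine ⟨u, ?_⟩
        rw [show n - 1 = n - 3 + 2 by omega, pow_add]
        push_cast
        ring
      have := hd ▸ orderOf_dvd_of_pow_eq_one h1
      rw [Nat.pow_dvd_pow_iff_le_right one_lt_two] at this
      omega
    · exact h
  · exfalso
    have h1 : (c ^ (r - 1)) ^ 2 ^ (n - 2) = 1 := orderOf_dvd_iff_pow_eq_one.mp (hd ▸ dvd_rfl)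
    rw [← zpow_natCast (c ^ (r - 1)), ← zpow_mul] at h1
    have h2 := orderOf_dvd_iff_zpow_eq_one.mpr h1
    rw [hco, show n - 1 = n - 2 + 1 by omega, pow_succ'] at h2
    push_cast at h2
    have h3 : (2 : ℤ) ∣ r - 1 := (mul_dvd_mul_iff_right (pow_ne_zero _ two_ne_zero)).mp h2
    omega

/-- Maximal class from commutator index four. -/
theorem maximal_class {G : Type*} [Group G] [Finite G] {n : ℕ} (hn : 3 ≤ n) (hG : Nat.card G = 2 ^ n)
    (hidx : (commutator G).index = 4) : Group.nilpotencyClass G = n - 1 := by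
  haveI : Fact (Nat.Prime 2) := ⟨Nat.prime_two⟩
  obtain ⟨c, g, hco, -, -, r, hr, s, hs, hsodd⟩ := structure_two hn hG hidx
  refine (class_eq_iff hn hG).mpr fun h => ?_
  have hk : ∀ k : ℕ, c ^ ((r - 1) ^ k) ∈ lcs G k := by
    intro k
    induction k with
    | zero => rw [lcs_zero]; exact mem_top _
    | succ k ih =>
      have h1 : ⁅g, c ^ ((r - 1) ^ k)⁆ ∈ lcs G (k + 1) := by
        rw [lcs_succ, commutator_comm]
        exact commutator_mem_commutator (mem_top g) ih
      rw [commutatorElement_def, ← conj_zpow, hr, ← zpow_mul, ← zpow_neg, ← zpow_add] at h1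
      convert h1 using 2
      ring
  have h2 := hk (n - 2)
  rw [h, mem_bot, ← orderOf_dvd_iff_zpow_eq_one, hco, hs, mul_pow,
    show n - 1 = n - 2 + 1 by omega, pow_succ] at h2
  push_cast at h2
  have h3 : (2 : ℤ) ∣ s ^ (n - 2) := (mul_dvd_mul_iff_left (pow_ne_zero _ two_ne_zero)).mp h2
  obtain ⟨k, hk⟩ := hsodd
  have : Odd (s ^ (n - 2)) := Odd.pow ⟨k, hk⟩
  exact (Int.not_even_iff_odd.mpr this) (even_iff_two_dvd.mpr h3)

end Cfsg.Agent.PGroups.Taussky
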