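import Cfsg.Agent.Lib.PGroups.AbelianNormal
import Cfsg.Agent.Solvable.Basics
import Cfsg.Agent.OddLocal.Coprime
import Mathlib.Data.Nat.Multiplicity
import Mathlib.GroupTheory.Frattini

/-!
Alperin's theorem on maximal abelian normal subgroups of exponent `p^n`, and Thompson's critical
subgroup.
-/

set_option autoImplicit false

namespace Cfsg.Agent.PGroups.Alperin

open Subgroup

variable {G : Type*} [Group G] [Finite G] {p : ℕ} [hp : Fact p.Prime]

theorem mem_of_pow_eq_one (hG : IsPGroup p G) {n : ℕ} (hn : p ^ n ≠ 2) (A : Subgroup G) [A.Normal]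
    [IsMulCommutative A] (hAe : ∀ a ∈ A, a ^ p ^ n = 1)
    (hmax : ∀ B : Subgroup G, B.Normal → IsMulCommutative B → (∀ b ∈ B, b ^ p ^ n = 1) → A ≤ B →
      B = A)
    {x : G} (hx : x ∈ centralizer (A : Set G)) (hxn : x ^ p ^ n = 1) : x ∈ A := by
  classical
  by_contra hxA
  set C := centralizer (A : Set G) with hC
  set L : ℕ → Subgroup G :=
    fun k => (Subgroup.upperCentralSeries (G ⧸ A) k).comap (QuotientGroup.mk' A) with hL
  have hL0 : ∀ y, y ∈ L 0 → y ∈ A := by
    intro y hy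
    simpa [hL, QuotientGroup.eq_one_iff] using hy
  have hLsucc : ∀ k y, y ∈ L (k + 1) → ∀ g : G, g * y * g⁻¹ * y⁻¹ ∈ L k := by
    intro k y hy g
    have h := (Subgroup.mem_upperCentralSeries_succ_iff).mp
      (show (QuotientGroup.mk' A y) ∈ Subgroup.upperCentralSeries (G ⧸ A) (k + 1) from hy)
      (QuotientGroup.mk' A g)
    have h2 := inv_mem h
    rw [commutatorElement_inv, commutatorElement_def, ← map_inv, ← map_inv, ← map_mul, ← map_mul,
      ← map_mul] at h2
    exact h2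
  haveI := (hG.to_quotient A).isNilpotent
  obtain ⟨N, hN⟩ := Group.IsNilpotent.nilpotent (G := G ⧸ A)
  have hex : ∃ i, ∃ y, y ∈ L i ∧ y ∈ C ∧ y ^ p ^ n = 1 ∧ y ∉ A :=
    ⟨N, x, by rw [hL]; dsimp only; rw [hN]; exact mem_top _, hx, hxn, hxA⟩
  set i := Nat.find hex with hi
  obtain ⟨y₀, hy₀L, hy₀C, hy₀n, hy₀A⟩ := Nat.find_spec hex
  have hmin : ∀ k < i, ∀ y, y ∈ L k → y ∈ C → y ^ p ^ n = 1 → y ∈ A := fun k hk y h1 h2 h3 => by
    by_contra h
    exact Nat.find_min hex hk ⟨y, h1, h2, h3, h⟩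
  -- replace `y₀` by a power with `p`-th power in `A`
  obtain ⟨y, hyL, hyC, hyn, hyA, hyp⟩ :
      ∃ y, y ∈ L i ∧ y ∈ C ∧ y ^ p ^ n = 1 ∧ y ∉ A ∧ y ^ p ∈ A := by
    have hexj : ∃ j, y₀ ^ p ^ j ∈ A := ⟨n, by rw [hy₀n]; exact one_mem A⟩
    rcases hcase : Nat.find hexj with _ | j
    · have h := Nat.find_spec hexj
      rw [hcase, pow_zero, pow_one] at h
      exact absurd h hy₀A
    · refine ⟨y₀ ^ p ^ j, pow_mem hy₀L _, pow_mem hy₀C _, ?_,
        fun h => Nat.find_min hexj (by omega) h, ?_⟩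
      · rw [← pow_mul, mul_comm, pow_mul, hy₀n, one_pow]
      · have h := Nat.find_spec hexj
        rw [hcase] at h
        rwa [← pow_mul, ← pow_succ]
  obtain ⟨i', hi'⟩ : ∃ i', i = i' + 1 := by
    refine Nat.exists_eq_succ_of_ne_zero fun h => hyA (hL0 y ?_)
    rw [← h]; exact hyL
  have hconjC : ∀ g : G, g * y * g⁻¹ ∈ C := fun g =>
    (inferInstance : C.Normal).conj_mem y hyC g
  have key : ∀ k ≤ i', ∀ g : G, g * y * g⁻¹ * y⁻¹ ∈ L k → g * y * g⁻¹ * y⁻¹ ∈ A := by
    intro k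
    induction k with
    | zero => exact fun _ g hg => hL0 _ hg
    | succ k ih =>
      intro hk g hg
      set c := g * y * g⁻¹ * y⁻¹ with hc
      have hcC : c ∈ C := mul_mem (hconjC g) (inv_mem hyC)
      set z := c * y * c⁻¹ * y⁻¹ with hz
      have hzL : z ∈ L k := by
        have h := inv_mem (hLsucc k c hg y)
        rwa [show (y * c * y⁻¹ * c⁻¹)⁻¹ = z by rw [hz]; group] at h
      have hzA : z ∈ A := ih (by omega) c hzL
      have hcomm : ∀ w ∈ C, Commute z w := fun w hw => hw z hzA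
      have hv : y * c * y⁻¹ = z⁻¹ * c := by rw [hz]; group
      have hzp : z ^ p = 1 := by
        have h := OddLocal.Coprime.pow_conj_of_central_commutator hv (hcomm y hyC).inv_left p
        have h2 : Commute (y ^ p) c := hcC (y ^ p) hyp
        rw [h2.eq] at h
        rw [← inv_eq_one, ← inv_pow]
        exact right_eq_mul.mp (mul_right_cancel h)
      have hcn : c ^ p ^ n = 1 := by
        have h := OddLocal.Coprime.mul_pow_of_central_commutator hv (hcomm c hcC).inv_left
          (hcomm y hyC).inv_left (p ^ n)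
        rw [show c * y = g * y * g⁻¹ by rw [hc]; group, conj_pow, hyn, mul_one, mul_inv_cancel] at h
        obtain ⟨m, hm⟩ := hp.out.dvd_choose_pow (two_ne_zero) (Ne.symm hn)
        rw [hm, inv_pow, pow_mul, hzp, one_pow, inv_one, one_mul, mul_one] at h
        exact h.symm
      exact hmin (k + 1) (by omega) c hg hcC hcn
  have hgA : ∀ g : G, g * y * g⁻¹ * y⁻¹ ∈ A := fun g =>
    key i' le_rfl g (hLsucc i' y (hi' ▸ hyL) g)
  refine hyA ?_
  have hB := hmax _ (AbelianNormal.normal_sup_zpowers hgA)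
    (le_centralizer_iff_isMulCommutative.mp (AbelianNormal.le_centralizer_sup_zpowers hyC)) ?_
    le_sup_left
  · rw [← hB]; exact mem_sup_right (mem_zpowers y)
  · intro b hb
    obtain ⟨a, ha, w, hw, rfl⟩ := mem_sup_of_normal_left.mp hb
    obtain ⟨j, rfl⟩ := mem_zpowers_iff.mp hw
    have hay : Commute a y := hyC a ha
    rw [(hay.zpow_right j).mul_pow, hAe a ha, one_mul, ← zpow_natCast, ← zpow_mul, mul_comm,
      zpow_mul, zpow_natCast, hyn, one_zpow]

/-- Thompson's critical subgroup. -/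
theorem exists_critical {P : Type*} [Group P] [Finite P] (hP : IsPGroup p P) :
    ∃ H : Subgroup P, H.Characteristic ∧ (frattini H).map H.subtype ≤ centralizer (H : Set P) ∧
      ⁅H, (⊤ : Subgroup P)⁆ ≤ H ⊓ centralizer (H : Set P) ∧ centralizer (H : Set P) ≤ H := by
  obtain ⟨A, ⟨hAc, hAa⟩, hAmax⟩ := Set.exists_max_image
    {A : Subgroup P | A.Characteristic ∧ IsMulCommutative A} (fun A => Nat.card A) (Set.toFinite _)
    ⟨⊥, inferInstance, inferInstance⟩
  haveI := hAc
  haveI := hAa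
  set C := centralizer (A : Set P) with hC
  set f := QuotientGroup.mk' A with hf
  let S : Subgroup (P ⧸ A) :=
    { carrier := {z | z ∈ center (P ⧸ A) ∧ z ^ p = 1}
      one_mem' := ⟨one_mem _, one_pow p⟩
      mul_mem' := fun {a b} ha hb => ⟨mul_mem ha.1 hb.1, by
        rw [(show Commute a b from mem_center_iff.mp hb.1 a).mul_pow, ha.2, hb.2, one_mul]⟩
      inv_mem' := fun {a} ha => ⟨inv_mem ha.1, by rw [inv_pow, ha.2, inv_one]⟩ }
  set H := S.comap f ⊓ C with hH
  have hmemH : ∀ x, x ∈ H ↔ (x ^ p ∈ A ∧ ∀ g : P, g * x * g⁻¹ * x⁻¹ ∈ A) ∧ x ∈ C := by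
    intro x
    rw [hH, mem_inf, mem_comap]
    change (f x ∈ center (P ⧸ A) ∧ (f x) ^ p = 1) ∧ _ ↔ _
    rw [hf, QuotientGroup.mk'_apply, mem_center_iff, ← QuotientGroup.mk_pow,
      QuotientGroup.eq_one_iff]
    constructor
    · rintro ⟨⟨h1, h2⟩, h3⟩
      refine ⟨⟨h2, fun g => ?_⟩, h3⟩
      rw [← QuotientGroup.eq_one_iff]
      simp only [QuotientGroup.mk_mul, QuotientGroup.mk_inv]
      rw [h1 (g : P ⧸ A)]; group
    · rintro ⟨⟨h2, h1⟩, h3⟩
      refine ⟨⟨fun y => ?_, h2⟩, h3⟩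
      obtain ⟨g, rfl⟩ := QuotientGroup.mk_surjective y
      have h := (QuotientGroup.eq_one_iff _).mpr (h1 g)
      simp only [QuotientGroup.mk_mul, QuotientGroup.mk_inv] at h
      exact mul_inv_eq_iff_eq_mul.mp (mul_inv_eq_one.mp h)
  have hAC : A ≤ C := le_centralizer A
  have hAH : A ≤ H := fun a ha => (hmemH a).mpr
    ⟨⟨pow_mem ha p, fun g => mul_mem (Normal.conj_mem inferInstance a ha g) (inv_mem ha)⟩, hAC ha⟩
  haveI hHc : H.Characteristic := by
    refine characteristic_iff_map_le.mpr fun φ => ?_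
    rintro _ ⟨x, hx, rfl⟩
    obtain ⟨⟨h1, h2⟩, h3⟩ := (hmemH x).mp hx
    have hA : ∀ a ∈ A, φ a ∈ A := fun a ha =>
      characteristic_iff_map_le.mp inferInstance φ ⟨a, ha, rfl⟩
    refine (hmemH _).mpr ⟨⟨?_, fun g => ?_⟩, fun a ha => ?_⟩
    · change (φ x) ^ p ∈ A
      rw [← map_pow]; exact hA _ h1
    · have h := hA _ (h2 (φ.symm g))
      rw [map_mul, map_mul, map_mul, map_inv, map_inv, φ.apply_symm_apply] at h
      exact h
    · obtain ⟨b, hb, rfl⟩ := (characteristic_iff_map_eq.mp inferInstance φ).ge ha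
      change φ b * φ x = φ x * φ b
      rw [← map_mul, ← map_mul, h3 b hb]
  have hAHc : A ≤ centralizer (H : Set P) :=
    le_centralizer_iff.mp (fun x hx => ((hmemH x).mp hx).2)
  refine ⟨H, hHc, ?_, le_inf ?_ ?_, ?_⟩
  · refine le_trans ?_ hAHc
    rintro _ ⟨x, hx, rfl⟩
    by_contra hxA
    haveI : (A.subgroupOf H).Normal := inferInstance
    have hcomm : commutator H ≤ A.subgroupOf H := by
      rw [commutator_def, commutator_le]
      intro a _ b _
      rw [mem_subgroupOf]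
      exact ((hmemH b).mp b.2).1.2 (a : P)
    have hpow : ∀ h : H, h ^ p ∈ A.subgroupOf H := fun h => ((hmemH h).mp h.2).1.1
    obtain ⟨M, hM, -, hxM⟩ : ∃ M : Subgroup H, IsCoatom M ∧ A.subgroupOf H ≤ M ∧ x ∉ M :=
      Cfsg.Agent.Solvable.Basics.exists_coatom_notMem hp.out hcomm hpow hxA
    exact hxM (frattini_le_coatom hM hx)
  · exact commutator_le.mpr fun a ha b _ => by
      rw [commutatorElement_def]
      have h := inv_mem (((hmemH a).mp ha).1.2 b)
      exact hAH (by simpa [mul_assoc] using h)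
  · exact commutator_le.mpr fun a ha b _ => by
      rw [commutatorElement_def]
      have h := inv_mem (((hmemH a).mp ha).1.2 b)
      exact hAHc (by simpa [mul_assoc] using h)
  · set Q := centralizer (H : Set P) with hQ
    have hQC : Q ≤ C := centralizer_le hAH
    -- `Q ⊓ H` is a characteristic abelian subgroup containing `A`, so it is `A`
    haveI hQc : Q.Characteristic := inferInstance
    have hZ : Q ⊓ H = A := by
      symm
      refine eq_of_le_of_card_ge (le_inf hAHc hAH) (hAmax _ ⟨inferInstance, ?_⟩)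
      exact le_centralizer_iff_isMulCommutative.mp
        (inf_le_left.trans (centralizer_le inf_le_right))
    by_contra hne
    have hlt : A < Q := lt_of_le_of_ne hAHc fun h => hne (h ▸ hAH)
    obtain ⟨x, hxQ, hxA, hxp, hxg⟩ := AbelianNormal.exists_step hP hlt
    refine hxA ?_
    rw [← hZ]
    exact mem_inf.mpr ⟨hxQ, (hmemH x).mpr ⟨⟨hxp, hxg⟩, hQC hxQ⟩⟩

end Cfsg.Agent.PGroups.Alperin
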