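import Mathlib
import Cfsg.Prelude.Def_Transfer
import Cfsg.Agent.Solvable.Basics

/-!
Isomorphisms of extraspecial groups by splitting off one hyperbolic pair at a time.
-/

set_option linter.all false
set_option autoImplicit false

namespace Cfsg.Agent.PGroups.ExtraspecialIso

open Subgroup
open scoped commutatorElement

universe u v

variable {p : ℕ}

/-- `E` is extraspecial, or of order `p`, with centre generated by `z`. -/
structure ES (p : ℕ) {E : Type*} [Group E] (z : E) : Prop where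
  ord : orderOf z = p
  cent : center E = zpowers z
  comm : ∀ x y : E, ⁅x, y⁆ ∈ zpowers z
  pow : ∀ x : E, x ^ p ∈ zpowers z

/-- A pair of elements with prescribed powers. -/
structure Pair (p a b : ℕ) {E : Type*} [Group E] (z x y : E) : Prop where
  swap : y * x = x * y * z
  powx : x ^ p = z ^ a
  powy : y ^ p = z ^ b

section
variable {E : Type*} [Group E] {z x y : E}

theorem ES.central (h : ES p z) : ∀ g : E, g * z = z * g :=
  fun g => mem_center_iff.mp (h.cent ▸ mem_zpowers z) g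

theorem ES.central_of_mem (h : ES p z) {c : E} (hc : c ∈ zpowers z) (g : E) : g * c = c * g :=
  mem_center_iff.mp (h.cent ▸ hc) g

theorem ES.pow_p (h : ES p z) : z ^ p = 1 := h.ord ▸ pow_orderOf_eq_one z

/-- The normal form. -/
def nf (z x y : E) (t : ℕ × ℕ × ℕ) : E := x ^ t.1 * y ^ t.2.1 * z ^ t.2.2

/-- The product of two normal forms. -/
def nfMul (s t : ℕ × ℕ × ℕ) : ℕ × ℕ × ℕ := (s.1 + t.1, s.2.1 + t.2.1, s.2.2 + t.2.2 + s.2.1 * t.1)

theorem pow_swap (hz : ∀ g : E, g * z = z * g) (hs : y * x = x * y * z) (j i : ℕ) :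
    y ^ j * x ^ i = x ^ i * y ^ j * z ^ (j * i) := by
  have hzc : ∀ (g : E) (k : ℕ), g * z ^ k = z ^ k * g := fun g k => ((show Commute g z from hz g).pow_right k).eq
  have h1 : ∀ i, y * x ^ i = x ^ i * y * z ^ i := by
    intro i
    induction i with
    | zero => simp
    | succ i ih =>
      calc y * x ^ (i + 1) = (y * x ^ i) * x := by rw [pow_succ, mul_assoc]
        _ = x ^ i * y * (z ^ i * x) := by rw [ih, mul_assoc]
        _ = x ^ i * (y * x) * z ^ i := by rw [← hzc x i]; group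
        _ = x ^ i * (x * y * z) * z ^ i := by rw [hs]
        _ = _ := by group
  induction j with
  | zero => simp
  | succ j ih =>
    calc y ^ (j + 1) * x ^ i = y * (y ^ j * x ^ i) := by rw [pow_succ', mul_assoc]
      _ = (y * x ^ i) * y ^ j * z ^ (j * i) := by rw [ih]; group
      _ = x ^ i * y * (z ^ i * y ^ j) * z ^ (j * i) := by rw [h1]; group
      _ = x ^ i * (y * y ^ j) * (z ^ i * z ^ (j * i)) := by rw [← hzc (y ^ j) i]; group
      _ = _ := by rw [← pow_succ', ← pow_add, show i + j * i = (j + 1) * i by ring]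

theorem nf_mul (hz : ∀ g : E, g * z = z * g) (hs : y * x = x * y * z) (s t : ℕ × ℕ × ℕ) :
    nf z x y s * nf z x y t = nf z x y (nfMul s t) := by
  obtain ⟨i, j, k⟩ := s
  obtain ⟨i', j', k'⟩ := t
  have hzc : ∀ (g : E) (k : ℕ), g * z ^ k = z ^ k * g := fun g k => ((show Commute g z from hz g).pow_right k).eq
  simp only [nf, nfMul]
  calc x ^ i * y ^ j * z ^ k * (x ^ i' * y ^ j' * z ^ k')
      = x ^ i * y ^ j * (z ^ k * (x ^ i' * y ^ j')) * z ^ k' := by group
    _ = x ^ i * (y ^ j * x ^ i') * y ^ j' * (z ^ k * z ^ k') := by rw [← hzc (x ^ i' * y ^ j') k]; group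
    _ = x ^ i * x ^ i' * (y ^ j * (z ^ (j * i') * y ^ j')) * (z ^ k * z ^ k') := by rw [pow_swap hz hs]; group
    _ = (x ^ i * x ^ i') * (y ^ j * y ^ j') * (z ^ (j * i') * (z ^ k * z ^ k')) := by
        rw [← hzc (y ^ j') (j * i')]; group
    _ = _ := by rw [← pow_add, ← pow_add, ← pow_add, ← pow_add, show j * i' + (k + k') = k + k' + j * i' by ring]

variable [hp : Fact p.Prime]

theorem pow_eq_one_iff_dvd (h : ES p z) {k : ℕ} : z ^ k = 1 ↔ p ∣ k := by
  rw [← h.ord, orderOf_dvd_iff_pow_eq_one]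

/-- The exponents of a normal form commuting with the pair. -/
theorem dvd_of_commute (h : ES p z) (hs : y * x = x * y * z) {t : ℕ × ℕ × ℕ}
    (hx : x * nf z x y t = nf z x y t * x) (hy : y * nf z x y t = nf z x y t * y) : p ∣ t.1 ∧ p ∣ t.2.1 := by
  obtain ⟨i, j, k⟩ := t
  have ex : x = nf z x y (1, 0, 0) := by simp [nf]
  have ey : y = nf z x y (0, 1, 0) := by simp [nf]
  constructor
  · have h1 : nf z x y (0, 1, 0) * nf z x y (i, j, k) = nf z x y (i, j, k) * nf z x y (0, 1, 0) := by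
      rw [← ey]; exact hy
    rw [nf_mul h.central hs, nf_mul h.central hs] at h1
    simp only [nfMul, nf, zero_add, add_zero, one_mul, mul_zero] at h1
    rw [add_comm 1 j] at h1
    have h2 : z ^ (k + i) = z ^ k := mul_left_cancel h1
    rw [pow_add, mul_eq_left] at h2
    exact (pow_eq_one_iff_dvd h).mp h2
  · have h1 : nf z x y (1, 0, 0) * nf z x y (i, j, k) = nf z x y (i, j, k) * nf z x y (1, 0, 0) := by
      rw [← ex]; exact hx
    rw [nf_mul h.central hs, nf_mul h.central hs] at h1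
    simp only [nfMul, nf, zero_add, add_zero, mul_one, zero_mul] at h1
    rw [add_comm 1 i] at h1
    have h2 : z ^ k = z ^ (k + j) := mul_left_cancel h1
    rw [pow_add, left_eq_mul] at h2
    exact (pow_eq_one_iff_dvd h).mp h2

/-- The centralizer of a pair. -/
abbrev cpair (x y : E) : Subgroup E := centralizer ({x, y} : Set E)

theorem mem_cpair {c : E} : c ∈ cpair x y ↔ x * c = c * x ∧ y * c = c * y := by
  simp [cpair, mem_centralizer_iff]

theorem exists_split (h : ES p z) {a b : ℕ} (hp' : Pair p a b z x y) (g : E) :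
    ∃ t : ℕ × ℕ × ℕ, ∃ c ∈ cpair x y, g = nf z x y t * c := by
  obtain ⟨s, hs⟩ : ∃ s : ℕ, z ^ s = ⁅g, x⁆ := by
    obtain ⟨n, hn⟩ := mem_zpowers_iff.mp (h.comm g x)
    refine ⟨(n % (p : ℤ)).toNat, ?_⟩
    rw [← zpow_natCast, Int.toNat_of_nonneg (Int.emod_nonneg n (Int.natCast_ne_zero.mpr hp.out.ne_zero)),
      ← h.ord, zpow_mod_orderOf, hn]
  obtain ⟨r, hr⟩ : ∃ r : ℕ, z ^ r = ⁅y, g⁆ := by
    obtain ⟨n, hn⟩ := mem_zpowers_iff.mp (h.comm y g)
    refine ⟨(n % (p : ℤ)).toNat, ?_⟩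
    rw [← zpow_natCast, Int.toNat_of_nonneg (Int.emod_nonneg n (Int.natCast_ne_zero.mpr hp.out.ne_zero)),
      ← h.ord, zpow_mod_orderOf, hn]
  set m := nf z x y (r, s, 0) with hm
  refine ⟨(r, s, 0), m⁻¹ * g, mem_cpair.mpr ⟨?_, ?_⟩, (mul_inv_cancel_left _ g).symm⟩
  · have h1 : g * x = x * g * z ^ s := by
      rw [hs, h.central_of_mem (h.comm g x) (x * g), commutatorElement_def]; group
    have h2 : m * x = x * m * z ^ s := by
      have ex : x = nf z x y (1, 0, 0) := by simp [nf]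
      conv_lhs => rw [ex, hm, nf_mul h.central hp'.swap]
      simp only [nfMul, nf, hm, add_zero, zero_add, mul_one, pow_zero, mul_one]
      rw [add_comm r 1, pow_add, pow_one]; group
    have h2' : m⁻¹ * x * z ^ s = x * m⁻¹ := by
      calc m⁻¹ * x * z ^ s = m⁻¹ * (x * m * z ^ s) * m⁻¹ * ((m * z ^ s * m⁻¹) ⁻¹ * z ^ s) := by group
        _ = m⁻¹ * (m * x) * m⁻¹ * ((m * z ^ s * m⁻¹) ⁻¹ * z ^ s) := by rw [h2]
        _ = x * m⁻¹ * ((z ^ s * m * m⁻¹) ⁻¹ * z ^ s) := by rw [h.central_of_mem (pow_mem (mem_zpowers z) s) m]; group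
        _ = _ := by group
    calc x * (m⁻¹ * g) = (x * m⁻¹) * g := by group
      _ = m⁻¹ * x * (z ^ s * g) := by rw [← h2']; group
      _ = m⁻¹ * (x * g * z ^ s) := by rw [← h.central_of_mem (pow_mem (mem_zpowers z) s) g]; group
      _ = _ := by rw [← h1]; group
  · have h1 : y * g = g * y * z ^ r := by
      rw [hr, h.central_of_mem (h.comm y g) (g * y), commutatorElement_def]; group
    have h2 : y * m = m * y * z ^ r := by
      have ey : y = nf z x y (0, 1, 0) := by simp [nf]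
      conv_lhs => rw [ey, hm, nf_mul h.central hp'.swap]
      simp only [nfMul, nf, hm, add_zero, zero_add, one_mul, pow_zero, mul_one]
      rw [add_comm 1 s, pow_add, pow_one]; group
    have h2' : y * m⁻¹ * z ^ r = m⁻¹ * y := by
      calc y * m⁻¹ * z ^ r = y * (m⁻¹ * z ^ r) := mul_assoc _ _ _
        _ = y * (z ^ r * m⁻¹) := by rw [h.central_of_mem (pow_mem (mem_zpowers z) r) m⁻¹]
        _ = m⁻¹ * (m * y * z ^ r) * m⁻¹ := by group
        _ = m⁻¹ * (y * m) * m⁻¹ := by rw [h2]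
        _ = _ := by group
    calc y * (m⁻¹ * g) = (y * m⁻¹) * g := by group
      _ = (y * m⁻¹ * z ^ r) * ((z ^ r)⁻¹ * g) := by group
      _ = m⁻¹ * (y * g) * (z ^ r)⁻¹ := by
          rw [h2', ← h.central_of_mem (inv_mem (pow_mem (mem_zpowers z) r)) g]; group
      _ = m⁻¹ * g * y := by rw [h1]; group

theorem card_eq [Finite E] (h : ES p z) {a b : ℕ} (hp' : Pair p a b z x y) :
    Nat.card E = p * p * Nat.card (cpair x y) := by
  have hzc : ∀ k : ℕ, z ^ k ∈ cpair x y := fun k => mem_cpair.mpr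
    ⟨h.central_of_mem (pow_mem (mem_zpowers z) k) x, h.central_of_mem (pow_mem (mem_zpowers z) k) y⟩
  let f : (Fin p × Fin p) × cpair x y → E := fun w => x ^ (w.1.1 : ℕ) * y ^ (w.1.2 : ℕ) * w.2
  have hf : Function.Bijective f := by
    constructor
    · rintro ⟨⟨i, j⟩, c⟩ ⟨⟨i', j'⟩, c'⟩ hw
      simp only [f] at hw
      set t : ℕ × ℕ × ℕ := (i, j, 0)
      have hc : (nf z x y ((i' : ℕ), (j' : ℕ), 0))⁻¹ * nf z x y ((i : ℕ), (j : ℕ), 0) ∈ cpair x y := by
        have : (nf z x y ((i' : ℕ), (j' : ℕ), 0))⁻¹ * nf z x y ((i : ℕ), (j : ℕ), 0) = (c' : E) * (c : E)⁻¹ := by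
          simp only [nf, pow_zero, mul_one]
          rw [eq_mul_inv_iff_mul_eq, mul_assoc, hw, inv_mul_cancel_left]
        rw [this]; exact mul_mem c'.2 (inv_mem c.2)
      -- an inverse is a normal form
      obtain ⟨P, hP⟩ : ∃ P, p = P + 1 := ⟨p - 1, by have := hp.out.pos; omega⟩
      have hinv : ∃ k, nf z x y ((i : ℕ) + (p - i') , (j : ℕ) + (p - j'), k) ∈ cpair x y := by
        have hprod := nf_mul h.central hp'.swap ((i' : ℕ), (j' : ℕ), 0) (p - i', p - j', 0)
        simp only [nfMul, Nat.add_sub_cancel' (le_of_lt i'.2), Nat.add_sub_cancel' (le_of_lt j'.2), zero_add,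
          add_zero] at hprod
        have hz' : nf z x y (p, p, (j' : ℕ) * (p - i')) ∈ zpowers z := by
          simp only [nf, hp'.powx, hp'.powy]
          exact mul_mem (mul_mem (pow_mem (mem_zpowers z) _) (pow_mem (mem_zpowers z) _)) (pow_mem (mem_zpowers z) _)
        rw [← hprod] at hz'
        refine ⟨0 + 0 + (p - (j' : ℕ)) * (i : ℕ), ?_⟩
        rw [show ((i : ℕ) + (p - i'), (j : ℕ) + (p - j'), (0 + 0 + (p - j') * (i : ℕ))) =
          nfMul (p - i', p - j', 0) ((i : ℕ), (j : ℕ), 0) from by simp [nfMul, add_comm],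
          ← nf_mul h.central hp'.swap]
        obtain ⟨n, hn⟩ := mem_zpowers_iff.mp hz'
        have he : nf z x y (p - i', p - j', 0) = (nf z x y ((i' : ℕ), (j' : ℕ), 0))⁻¹ * z ^ n := by
          rw [hn, inv_mul_cancel_left]
        rw [he, mul_assoc, ← h.central_of_mem (zpow_mem (mem_zpowers z) n), ← mul_assoc]
        refine mul_mem hc (mem_cpair.mpr ⟨?_, ?_⟩)
        · exact h.central_of_mem (zpow_mem (mem_zpowers z) n) x
        · exact h.central_of_mem (zpow_mem (mem_zpowers z) n) y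
      obtain ⟨k, hk⟩ := hinv
      obtain ⟨h1, h2⟩ := dvd_of_commute h hp'.swap (mem_cpair.mp hk).1 (mem_cpair.mp hk).2
      simp only at h1 h2
      have key : ∀ u v : Fin p, p ∣ (u : ℕ) + (p - v) → u = v := by
        intro u v huv
        obtain ⟨q, hq⟩ := huv
        have hu := u.2
        have hv := v.2
        rcases q with _ | _ | q
        · omega
        · exact Fin.ext (by omega)
        · rw [show p * (q + 1 + 1) = p * q + p + p by ring] at hq; omega
      obtain rfl := key i i' h1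
      obtain rfl := key j j' h2
      rw [Subtype.ext (mul_left_cancel hw)]
    · intro g
      obtain ⟨⟨i, j, k⟩, c, hc, rfl⟩ := exists_split h hp' g
      refine ⟨⟨⟨⟨i % p, Nat.mod_lt _ hp.out.pos⟩, ⟨j % p, Nat.mod_lt _ hp.out.pos⟩⟩,
        ⟨z ^ (a * (i / p)) * z ^ (b * (j / p)) * z ^ k * c, mul_mem (mul_mem (mul_mem (hzc _) (hzc _)) (hzc _)) hc⟩⟩, ?_⟩
      simp only [f, nf]
      have e1 : x ^ i = x ^ (i % p) * z ^ (a * (i / p)) := by
        rw [pow_mul z a, ← hp'.powx, ← pow_mul, ← pow_add, Nat.mod_add_div]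
      have e2 : y ^ j = y ^ (j % p) * z ^ (b * (j / p)) := by
        rw [pow_mul z b, ← hp'.powy, ← pow_mul, ← pow_add, Nat.mod_add_div]
      rw [e1, e2]
      calc x ^ (i % p) * y ^ (j % p) * (z ^ (a * (i / p)) * z ^ (b * (j / p)) * z ^ k * c)
          = x ^ (i % p) * (y ^ (j % p) * z ^ (a * (i / p))) * z ^ (b * (j / p)) * z ^ k * c := by group
        _ = _ := by rw [h.central_of_mem (pow_mem (mem_zpowers z) _) (y ^ (j % p))]; group
  rw [← Nat.card_congr (Equiv.ofBijective f hf), Nat.card_prod, Nat.card_prod, Nat.card_eq_fintype_card,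
    Fintype.card_fin]

/-- The centralizer of a pair is again extraspecial or of order `p`. -/
theorem es_cpair (h : ES p z) {a b : ℕ} (hp' : Pair p a b z x y) :
    ∃ hz : z ∈ cpair x y, ES p (⟨z, hz⟩ : cpair x y) := by
  have hz : z ∈ cpair x y := mem_cpair.mpr ⟨h.central x, h.central y⟩
  have hmem : ∀ c : cpair x y, (c : E) ∈ zpowers z → c ∈ zpowers (⟨z, hz⟩ : cpair x y) := fun c hc => by
    obtain ⟨n, hn⟩ := mem_zpowers_iff.mp hc
    exact mem_zpowers_iff.mpr ⟨n, Subtype.ext hn⟩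
  refine ⟨hz, ?_, le_antisymm ?_ (zpowers_le.mpr (mem_center_iff.mpr fun c => Subtype.ext (h.central c))), ?_, ?_⟩
  · rw [← Subgroup.orderOf_coe]; exact h.ord
  · intro c hc
    refine hmem c (h.cent ▸ mem_center_iff.mpr fun g => ?_)
    obtain ⟨t, d, hd, rfl⟩ := exists_split h hp' g
    have h1 : d * (c : E) = c * d := congrArg Subtype.val (mem_center_iff.mp hc ⟨d, hd⟩)
    have h2 : Commute (c : E) (nf z x y t) := by
      refine ((Commute.pow_right ?_ _).mul_right (Commute.pow_right ?_ _)).mul_right (Commute.pow_right ?_ _)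
      · exact (mem_cpair.mp c.2).1.symm
      · exact (mem_cpair.mp c.2).2.symm
      · exact h.central c
    rw [mul_assoc, h1, ← mul_assoc, ← h2.eq, mul_assoc]
  · intro c d
    exact hmem _ (by rw [← coe_subtype, map_commutatorElement]; exact h.comm _ _)
  · intro c
    exact hmem _ (by rw [SubmonoidClass.coe_pow]; exact h.pow _)

end

variable [hp : Fact p.Prime]

/-- Two groups with pairs of equal type are isomorphic once the centralizers of the pairs are. -/
theorem glue {E : Type*} {E' : Type*} [Group E] [Group E'] [Finite E] [Finite E'] {z x y : E} {z' x' y' : E'}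
    (h : ES p z) (h' : ES p z') {a b : ℕ} (P : Pair p a b z x y) (P' : Pair p a b z' x' y')
    (γ : cpair x y ≃* cpair x' y')
    (hγ : ∀ c : cpair x y, (c : E) = z → (γ c : E') = z') : ∃ e : E ≃* E', e z = z' := by
  have hzmem : z ∈ cpair x y := mem_cpair.mpr ⟨h.central x, h.central y⟩
  have hγz : (γ ⟨z, hzmem⟩ : E') = z' := hγ _ rfl
  have hzc' : ∀ c : cpair x' y', ∀ t, (c : E') * nf z' x' y' t = nf z' x' y' t * c := fun c t => by
    refine (((Commute.pow_right ?_ _).mul_right (Commute.pow_right ?_ _)).mul_right (Commute.pow_right ?_ _)).eq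
    · exact (mem_cpair.mp c.2).1.symm
    · exact (mem_cpair.mp c.2).2.symm
    · exact h'.central c
  have hzc : ∀ c : cpair x y, ∀ t, (c : E) * nf z x y t = nf z x y t * c := fun c t => by
    refine (((Commute.pow_right ?_ _).mul_right (Commute.pow_right ?_ _)).mul_right (Commute.pow_right ?_ _)).eq
    · exact (mem_cpair.mp c.2).1.symm
    · exact (mem_cpair.mp c.2).2.symm
    · exact h.central c
  let S : Submonoid (E × E') :=
    { carrier := {w | ∃ (t : ℕ × ℕ × ℕ) (c : cpair x y), w = (nf z x y t * c, nf z' x' y' t * γ c)}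
      one_mem' := ⟨(0, 0, 0), 1, Prod.ext (by simp [nf]) (by simp [nf])⟩
      mul_mem' := by
        rintro _ _ ⟨s, c, rfl⟩ ⟨t, d, rfl⟩
        refine ⟨nfMul s t, c * d, Prod.ext ?_ ?_⟩
        · simp only [Prod.fst_mul, Subgroup.coe_mul]
          rw [← nf_mul h.central P.swap, mul_assoc, ← mul_assoc (c : E), hzc c t]; group
        · simp only [Prod.snd_mul, map_mul, Subgroup.coe_mul]
          rw [← nf_mul h'.central P'.swap, mul_assoc, ← mul_assoc (γ c : E'), hzc' (γ c) t]; group }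
  have hinj : ∀ w ∈ S, w.1 = 1 → w.2 = 1 := by
    rintro _ ⟨⟨i, j, k⟩, c, rfl⟩ hw
    simp only at hw ⊢
    have hnc : nf z x y (i, j, k) ∈ cpair x y := by
      rw [eq_inv_of_mul_eq_one_left hw]; exact inv_mem c.2
    obtain ⟨h1, h2⟩ := dvd_of_commute h P.swap (mem_cpair.mp hnc).1 (mem_cpair.mp hnc).2
    obtain ⟨i, rfl⟩ := h1
    obtain ⟨j, rfl⟩ := h2
    have e : nf z x y (p * i, p * j, k) = z ^ (a * i + b * j + k) := by
      simp only [nf, pow_mul, P.powx, P.powy, pow_add]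
    have e' : nf z' x' y' (p * i, p * j, k) = z' ^ (a * i + b * j + k) := by
      simp only [nf, pow_mul, P'.powx, P'.powy, pow_add]
    rw [e] at hw
    rw [e']
    have hc : c = (⟨z, hzmem⟩ : cpair x y)⁻¹ ^ (a * i + b * j + k) := Subtype.ext (by
      push_cast; rw [inv_pow]; exact eq_inv_of_mul_eq_one_right hw)
    rw [hc, map_pow, map_inv]
    push_cast
    rw [hγz, inv_pow, mul_inv_cancel]
  choose t c hc using fun g => exists_split h P g
  choose hcm hg using hc
  let φ : E → E' := fun g => nf z' x' y' (t g) * γ ⟨c g, hcm g⟩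
  have hφmem : ∀ g, (g, φ g) ∈ S := fun g => ⟨t g, ⟨c g, hcm g⟩, Prod.ext (hg g) rfl⟩
  have huniq : ∀ g w, (g, w) ∈ S → φ g = w := by
    intro g w hw
    have hi : (g, w) ^ (Nat.card (E × E') - 1) ∈ S := pow_mem hw _
    have hone : (g, w) * (g, w) ^ (Nat.card (E × E') - 1) = 1 := by
      rw [← pow_succ', Nat.sub_add_cancel Nat.card_pos, pow_card_eq_one']
    have hinv : (g, w)⁻¹ ∈ S := by rw [inv_eq_of_mul_eq_one_right hone]; exact hi
    have := hinj _ (mul_mem (hφmem g) hinv) (by simp)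
    simp only [Prod.snd_mul, Prod.snd_inv] at this
    exact mul_inv_eq_one.mp this
  let f : E →* E' := MonoidHom.mk' φ fun g g' => huniq _ _ (mul_mem (hφmem g) (hφmem g'))
  have hsurj : Function.Surjective f := by
    intro g'
    obtain ⟨t', c', hc', rfl⟩ := exists_split h' P' g'
    obtain ⟨d, hd⟩ := γ.surjective ⟨c', hc'⟩
    exact ⟨nf z x y t' * d, huniq _ _ ⟨t', d, by rw [hd]⟩⟩
  have hcard : Nat.card E = Nat.card E' := by
    rw [card_eq h P, card_eq h' P', Nat.card_congr γ.toEquiv]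
  refine ⟨MulEquiv.ofBijective f ((Nat.bijective_iff_surjective_and_card f).mpr ⟨hsurj, hcard⟩), ?_⟩
  exact huniq z z' ⟨(0, 0, 0), ⟨z, hzmem⟩, by simp [nf, hγz]⟩

theorem exists_noncentral {E : Type*} [Group E] {z : E} (h : ES p z) (hE : Nat.card E ≠ p) :
    ∃ x, x ∉ zpowers z := by
  by_contra hc
  push Not at hc
  refine hE ?_
  rw [← h.ord, ← Nat.card_zpowers, (eq_top_iff' _).mpr hc, card_top]

theorem exists_partner {E : Type*} [Group E] {z x : E} (h : ES p z) (hx : x ∉ zpowers z) :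
    ∃ y, y * x = x * y * z := by
  obtain ⟨y, hy⟩ : ∃ y, ⁅y, x⁆ ≠ 1 := by
    by_contra hc
    push Not at hc
    refine hx (h.cent ▸ mem_center_iff.mpr fun g => ?_)
    exact commutatorElement_eq_one_iff_mul_comm.mp (hc g)
  obtain ⟨n, hn⟩ := mem_zpowers_iff.mp (h.comm y x)
  have hnd : ¬ (p : ℤ) ∣ n := fun hd => hy (hn ▸ (orderOf_dvd_iff_zpow_eq_one.mp (h.ord.symm ▸ hd)))
  obtain ⟨u, v, huv⟩ := (Nat.prime_iff_prime_int.1 hp.out).coprime_iff_not_dvd.2 hnd
  refine ⟨y ^ v, ?_⟩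
  have hzc : ∀ k : ℤ, ∀ g : E, g * z ^ k = z ^ k * g := fun k g => h.central_of_mem (zpow_mem (mem_zpowers z) k) g
  have h1 : ∀ m : ℕ, ⁅y ^ m, x⁆ = z ^ (n * m) := by
    intro m
    induction m with
    | zero => simp
    | succ m ih =>
      rw [pow_succ', commutatorElement_mul_left_eq_conj_mul, ih, hzc, mul_inv_cancel_right, ← hn, ← zpow_add]
      push_cast; ring_nf
  have h2 : ⁅y ^ v, x⁆ = z ^ (n * v) := by
    obtain ⟨m, rfl | rfl⟩ := v.eq_nat_or_neg
    · rw [zpow_natCast]; exact h1 m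
    · have h3 := h1 m
      have h4 : ⁅(y ^ m)⁻¹ * y ^ m, x⁆ = (y ^ m)⁻¹ * z ^ (n * (m : ℤ)) * y ^ m * ⁅(y ^ m)⁻¹, x⁆ := by
        rw [commutatorElement_mul_left_eq_conj_mul, h3, inv_inv]
      rw [inv_mul_cancel, commutatorElement_one_left, hzc, mul_assoc (z ^ (n * (m : ℤ))), inv_mul_cancel, mul_one] at h4
      rw [zpow_neg, zpow_natCast, mul_neg, zpow_neg]
      exact eq_inv_of_mul_eq_one_right h4.symm
  have h5 : z ^ (n * v) = z := by
    have hh : n * v = 1 + (p : ℤ) * (-u) := by linarith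
    rw [hh, zpow_add, zpow_one, zpow_mul, zpow_natCast, h.pow_p, one_zpow, mul_one]
  rw [h5] at h2
  calc y ^ v * x = ⁅y ^ v, x⁆ * (x * y ^ v) := by simp only [commutatorElement_def]; group
    _ = z * (x * y ^ v) := by rw [h2]
    _ = _ := (h.central _).symm

theorem of_isExtraspecial {E : Type*} [Group E] [Finite E] (hE : Cfsg.IsExtraspecial p E) :
    ∃ z : E, ES p z := by
  obtain ⟨⟨hP, hfr, hcm⟩, hZ⟩ := hE
  haveI : IsCyclic (center E) := isCyclic_of_prime_card hZ
  obtain ⟨⟨z, hzc⟩, hz⟩ := isCyclic_iff_exists_zpowers_eq_top.mp (inferInstance : IsCyclic (center E))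
  have hzz : zpowers z = center E := by
    refine le_antisymm (zpowers_le.mpr hzc) fun w hw => ?_
    obtain ⟨i, hi⟩ := mem_zpowers_iff.mp (hz ▸ mem_top (⟨w, hw⟩ : center E))
    exact mem_zpowers_iff.mpr ⟨i, congrArg Subtype.val hi⟩
  refine ⟨z, by rw [← Nat.card_zpowers, hzz, hZ], hzz.symm, fun x y => ?_, fun x => ?_⟩
  · rw [hzz, ← hcm, _root_.commutator_def]; exact commutator_mem_commutator (mem_top x) (mem_top y)
  · rw [hzz, ← hfr]; exact Cfsg.Agent.Solvable.Basics.pow_mem_frattini hP x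

theorem iso_order_prime {E : Type*} {E' : Type*} [Group E] [Group E'] [Finite E] [Finite E'] {z : E} {z' : E'}
    (h : ES p z) (h' : ES p z') (hE : Nat.card E = p) (hE' : Nat.card E' = p) :
    ∃ e : E ≃* E', e z = z' := by
  have hgen : ∀ {F : Type _} [Group F] [Finite F] {w : F}, ES p w → Nat.card F = p → ∀ g : F, g ∈ zpowers w := by
    intro F _ _ w hw hF g
    have : zpowers w = ⊤ := eq_top_of_card_eq _ (by rw [Nat.card_zpowers, hw.ord, hF])
    exact this ▸ mem_top g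
  have hex : ∀ g : E, ∃ k : ℤ, z ^ k = g := fun g => mem_zpowers_iff.mp (hgen h hE g)
  choose k hk using hex
  have hwd : ∀ i j : ℤ, z ^ i = z ^ j → z' ^ i = z' ^ j := fun i j hij => by
    rw [zpow_eq_zpow_iff_modEq, h.ord] at hij
    rw [zpow_eq_zpow_iff_modEq, h'.ord]
    exact hij
  let f : E →* E' := MonoidHom.mk' (fun g => z' ^ k g) fun a b => by
    rw [← zpow_add]
    exact hwd _ _ (by rw [hk, zpow_add, hk, hk])
  have hsurj : Function.Surjective f := fun g' => by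
    obtain ⟨i, hi⟩ := mem_zpowers_iff.mp (by
      have : zpowers z' = ⊤ := eq_top_of_card_eq _ (by rw [Nat.card_zpowers, h'.ord, hE'])
      exact this ▸ mem_top g' : g' ∈ zpowers z')
    exact ⟨z ^ i, (hwd _ _ (hk _)).trans hi⟩
  refine ⟨MulEquiv.ofBijective f ((Nat.bijective_iff_surjective_and_card f).mpr ⟨hsurj, by rw [hE, hE']⟩), ?_⟩
  exact (hwd (k z) 1 (by rw [hk, zpow_one])).trans (zpow_one z')

/-- Exponent `p` groups of equal order are isomorphic. -/
theorem iso_exponent : ∀ (m : ℕ) (E : Type u) (E' : Type v) [Group E] [Group E'] [Finite E] [Finite E'] (z : E) (z' : E'),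
    ES p z → ES p z' → (∀ x : E, x ^ p = 1) → (∀ x : E', x ^ p = 1) → Nat.card E = m → Nat.card E' = m →
    ∃ e : E ≃* E', e z = z' := by
  intro m
  induction m using Nat.strong_induction_on with
  | _ m IH =>
  intro E E' _ _ _ _ z z' h h' he he' hE hE'
  by_cases hmp : m = p
  · exact iso_order_prime h h' (hE.trans hmp) (hE'.trans hmp)
  obtain ⟨x, hx⟩ := exists_noncentral h (hE ▸ hmp)
  obtain ⟨x', hx'⟩ := exists_noncentral h' (hE' ▸ hmp)
  obtain ⟨y, hy⟩ := exists_partner h hx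
  obtain ⟨y', hy'⟩ := exists_partner h' hx'
  have P : Pair p 0 0 z x y := ⟨hy, by rw [he, pow_zero], by rw [he, pow_zero]⟩
  have P' : Pair p 0 0 z' x' y' := ⟨hy', by rw [he', pow_zero], by rw [he', pow_zero]⟩
  obtain ⟨hz, hC⟩ := es_cpair h P
  obtain ⟨hz', hC'⟩ := es_cpair h' P'
  have hc := card_eq h P
  have hc' := card_eq h' P'
  rw [hE] at hc
  rw [hE'] at hc'
  have hlt : Nat.card (cpair x y) < m := by
    rw [hc]
    exact lt_mul_of_one_lt_left Nat.card_pos (Nat.one_lt_mul_iff.mpr ⟨hp.out.pos, hp.out.pos, Or.inl hp.out.one_lt⟩)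
  obtain ⟨γ, hγ⟩ := IH _ hlt _ _ _ _ hC hC' (fun c => Subtype.ext (he c)) (fun c => Subtype.ext (he' c)) rfl
    (Nat.eq_of_mul_eq_mul_left (Nat.mul_pos hp.out.pos hp.out.pos) (hc'.symm.trans hc))
  refine glue h h' P P' γ fun c hc => ?_
  rw [show c = ⟨z, hz⟩ from Subtype.ext hc, hγ]

theorem pow_two_cases {E : Type*} [Group E] {z : E} (h : ES 2 z) (g : E) : g ^ 2 = 1 ∨ g ^ 2 = z := by
  obtain ⟨n, hn⟩ := mem_zpowers_iff.mp (h.pow g)
  rw [← zpow_mod_orderOf, h.ord] at hn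
  rcases Int.emod_two_eq n with e | e <;> rw [show ((2 : ℕ) : ℤ) = 2 from rfl, e] at hn
  · exact Or.inl (by rw [← hn, zpow_zero])
  · exact Or.inr (by rw [← hn, zpow_one])

/-- A dihedral pair at a noncentral involution. -/
theorem pair_of_involution {E : Type*} [Group E] {z t : E} (h : ES 2 z) (ht : t ∉ zpowers z) (ht2 : t ^ 2 = 1) :
    ∃ y, Pair 2 0 0 z t y := by
  haveI : Fact (Nat.Prime 2) := ⟨Nat.prime_two⟩
  obtain ⟨y, hy⟩ := exists_partner h ht
  rcases pow_two_cases h y with h' | h'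
  · exact ⟨y, hy, by rw [ht2, pow_zero], by rw [h', pow_zero]⟩
  · refine ⟨t * y, ?_, by rw [ht2, pow_zero], ?_⟩
    · rw [mul_assoc, hy]; group
    · calc (t * y) ^ 2 = t * (y * t) * y := by rw [pow_two]; group
        _ = t * (t * y * z) * y := by rw [hy]
        _ = t ^ 2 * (y * (z * y)) := by rw [pow_two]; group
        _ = t ^ 2 * (y ^ 2 * z) := by rw [← h.central y, ← mul_assoc y, ← pow_two y]
        _ = z ^ 2 := by rw [ht2, h', one_mul, pow_two]
        _ = 1 := h.pow_p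
        _ = z ^ 0 := (pow_zero z).symm

/-- Either all noncentral elements square to `z` and the order is eight, or there is a dihedral pair. -/
theorem pair_two {E : Type*} [Group E] [Finite E] {z : E} (h : ES 2 z) (hE : Nat.card E ≠ 2) :
    (∃ x y, Pair 2 0 0 z x y) ∨
      (∃ x y, Pair 2 1 1 z x y ∧ Nat.card (cpair x y) = 2) := by
  haveI : Fact (Nat.Prime 2) := ⟨Nat.prime_two⟩
  by_cases hinv : ∃ t, t ∉ zpowers z ∧ t ^ 2 = 1
  · obtain ⟨t, ht, ht2⟩ := hinv
    obtain ⟨y, hy⟩ := pair_of_involution h ht ht2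
    exact Or.inl ⟨t, y, hy⟩
  refine Or.inr ?_
  obtain ⟨x, hx⟩ := exists_noncentral h hE
  obtain ⟨y, hy⟩ := exists_partner h hx
  have hy' : y ∉ zpowers z := by
    intro hyz
    have : x * y * z = x * y * 1 := by rw [← hy, mul_one, h.central_of_mem hyz x]
    have hz1 : z = 1 := mul_left_cancel this
    have := h.ord
    rw [hz1, orderOf_one] at this
    exact absurd this (by norm_num)
  push Not at hinv
  have hsq : ∀ g, g ∉ zpowers z → g ^ 2 = z := fun g hg => (pow_two_cases h g).resolve_left (hinv g hg)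
  have P : Pair 2 1 1 z x y := ⟨hy, by rw [hsq x hx, pow_one], by rw [hsq y hy', pow_one]⟩
  refine ⟨x, y, P, ?_⟩
  have hle : ∀ c ∈ cpair x y, c ∈ zpowers z := by
    intro c hc
    by_contra hcz
    have hxc : x * c ∉ zpowers z := by
      intro hmem
      have h1 : Commute y (x * c) := h.central_of_mem hmem y
      have h2 : y * x = x * y := by
        have h3 := h1.eq
        rw [mul_assoc x c y, ← (mem_cpair.mp hc).2, ← mul_assoc, ← mul_assoc] at h3
        exact mul_right_cancel h3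
      rw [hy, mul_eq_left] at h2
      have := h.ord
      rw [h2, orderOf_one] at this
      exact absurd this (by norm_num)
    have := hinv _ hxc
    refine this ?_
    rw [(show Commute x c from (mem_cpair.mp hc).1).mul_pow, hsq x hx, hsq c hcz, ← pow_two, h.pow_p]
  have heq : cpair x y = zpowers z := le_antisymm hle (zpowers_le.mpr (mem_cpair.mpr ⟨h.central x, h.central y⟩))
  rw [heq, Nat.card_zpowers, h.ord]

/-- Groups of order eight with pairs of the same type are isomorphic. -/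
theorem base {A : Type*} {B : Type*} [Group A] [Group B] [Finite A] [Finite B] {za : A} {zb : B} {a : ℕ}
    {xa ya : A} {xb yb : B} (ha : ES 2 za) (hb : ES 2 zb) (ca : Nat.card A = 8) (cb : Nat.card B = 8)
    (PA : Pair 2 a a za xa ya) (PB : Pair 2 a a zb xb yb) : ∃ e : A ≃* B, e za = zb := by
  haveI : Fact (Nat.Prime 2) := ⟨Nat.prime_two⟩
  obtain ⟨wa, CA⟩ := es_cpair ha PA
  obtain ⟨wb, CB⟩ := es_cpair hb PB
  have ea := card_eq ha PA
  have eb := card_eq hb PB
  rw [ca] at ea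
  rw [cb] at eb
  obtain ⟨g, hg⟩ := iso_order_prime CA CB (by omega) (by omega)
  exact glue ha hb PA PB g fun c hc => by rw [show c = ⟨za, wa⟩ from Subtype.ext hc, hg]

/-- Two types of extraspecial `2`-groups. -/
theorem two_of_three : ∀ (m : ℕ) (E₁ : Type u) (E₂ : Type v) (E₃ : Type*) [Group E₁] [Group E₂] [Group E₃]
    [Finite E₁] [Finite E₂] [Finite E₃] (z₁ : E₁) (z₂ : E₂) (z₃ : E₃),
    ES 2 z₁ → ES 2 z₂ → ES 2 z₃ → Nat.card E₁ = m → Nat.card E₂ = m → Nat.card E₃ = m →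
    (∃ e : E₁ ≃* E₂, e z₁ = z₂) ∨ (∃ e : E₂ ≃* E₃, e z₂ = z₃) ∨ (∃ e : E₁ ≃* E₃, e z₁ = z₃) := by
  haveI : Fact (Nat.Prime 2) := ⟨Nat.prime_two⟩
  intro m
  induction m using Nat.strong_induction_on with
  | _ m IH =>
  intro E₁ E₂ E₃ _ _ _ _ _ _ z₁ z₂ z₃ h₁ h₂ h₃ c₁ c₂ c₃
  by_cases hm : m = 2
  · exact Or.inl (iso_order_prime h₁ h₂ (c₁.trans hm) (c₂.trans hm))
  by_cases hD : (∃ x y, Pair 2 0 0 z₁ x y) ∧ (∃ x y, Pair 2 0 0 z₂ x y) ∧ (∃ x y, Pair 2 0 0 z₃ x y)
  · obtain ⟨⟨x₁, y₁, P₁⟩, ⟨x₂, y₂, P₂⟩, ⟨x₃, y₃, P₃⟩⟩ := hD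
    obtain ⟨w₁, C₁⟩ := es_cpair h₁ P₁
    obtain ⟨w₂, C₂⟩ := es_cpair h₂ P₂
    obtain ⟨w₃, C₃⟩ := es_cpair h₃ P₃
    have e₁ := card_eq h₁ P₁
    have e₂ := card_eq h₂ P₂
    have e₃ := card_eq h₃ P₃
    rw [c₁] at e₁
    rw [c₂] at e₂
    rw [c₃] at e₃
    have := Nat.card_pos (α := cpair x₁ y₁)
    rcases IH (Nat.card (cpair x₁ y₁)) (by omega) _ _ _ _ _ _ C₁ C₂ C₃ rfl (by omega) (by omega) with
      ⟨g, hg⟩ | ⟨g, hg⟩ | ⟨g, hg⟩
    · exact Or.inl (glue h₁ h₂ P₁ P₂ g fun c hc => by rw [show c = ⟨z₁, w₁⟩ from Subtype.ext hc, hg])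
    · exact Or.inr (Or.inl (glue h₂ h₃ P₂ P₃ g fun c hc => by rw [show c = ⟨z₂, w₂⟩ from Subtype.ext hc, hg]))
    · exact Or.inr (Or.inr (glue h₁ h₃ P₁ P₃ g fun c hc => by rw [show c = ⟨z₁, w₁⟩ from Subtype.ext hc, hg]))
  -- otherwise the order is eight
  have h8 : m = 8 := by
    by_contra hm8
    refine hD ⟨?_, ?_, ?_⟩
    · rcases pair_two h₁ (c₁ ▸ hm) with h | ⟨x, y, P, hc⟩
      · exact h
      · exact absurd (c₁ ▸ (by rw [card_eq h₁ P, hc] : Nat.card E₁ = 2 * 2 * 2)) hm8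
    · rcases pair_two h₂ (c₂ ▸ hm) with h | ⟨x, y, P, hc⟩
      · exact h
      · exact absurd (c₂ ▸ (by rw [card_eq h₂ P, hc] : Nat.card E₂ = 2 * 2 * 2)) hm8
    · rcases pair_two h₃ (c₃ ▸ hm) with h | ⟨x, y, P, hc⟩
      · exact h
      · exact absurd (c₃ ▸ (by rw [card_eq h₃ P, hc] : Nat.card E₃ = 2 * 2 * 2)) hm8
  rcases pair_two h₁ (c₁ ▸ hm) with ⟨x₁, y₁, P₁⟩ | ⟨x₁, y₁, P₁, -⟩ <;>
  rcases pair_two h₂ (c₂ ▸ hm) with ⟨x₂, y₂, P₂⟩ | ⟨x₂, y₂, P₂, -⟩ <;>
  rcases pair_two h₃ (c₃ ▸ hm) with ⟨x₃, y₃, P₃⟩ | ⟨x₃, y₃, P₃, -⟩ <;>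
  first
    | exact Or.inl (base h₁ h₂ (c₁.trans h8) (c₂.trans h8) P₁ P₂)
    | exact Or.inr (Or.inl (base h₂ h₃ (c₂.trans h8) (c₃.trans h8) P₂ P₃))
    | exact Or.inr (Or.inr (base h₁ h₃ (c₁.trans h8) (c₃.trans h8) P₁ P₃))

end Cfsg.Agent.PGroups.ExtraspecialIso
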